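import Cfsg.Agent.H503.El.Fix2_m3
import Mathlib
import Cfsg.Prelude.Def_Classical
import Cfsg.Agent.H732.SelfCentO
import Cfsg.Agent.H393.Iso.J23
import Cfsg.Agent.S0296
import Cfsg.Agent.LieClassical.FieldTransfer
import Cfsg.Agent.LieClassical.OrthCenter
import Cfsg.Agent.LieClassical.OmegaReindex
import Cfsg.Agent.ClassicalGeometry.IsoTransfer
import Cfsg.Agent.Lib.FinFast
import Cfsg.Agent.H809.SelfCentUni
import Cfsg.Agent.S0243
import Cfsg.Agent.S0249
import Cfsg.Agent.S0293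
import Cfsg.Agent.S0294
import Cfsg.Agent.S0297
import Cfsg.Agent.Lib.ListFast
import Cfsg.Agent.FastGrp
import Cfsg.Agent.Prune
set_option linter.all false

section
prune_inst 0x7fffbcfbdff8eddfffff7e77fefddffdfbfa5fffafdff9fbffe0e3ff3f9f630e8bc5a3afefe050ff1e9662bc10a87803ff7eeeffea6fdc7ffffd5ff45ffbee1fe5ffbd0c7196bc341ffe6ff79bf07fce7f3fffffffffffffffffffffffffffbeffffffffffff

-- part: H503/El/O8
section
prune_inst 0x40000000022000000008000200000401a00040000200000100000000086174005800100f82008060800020500390008110000000000000000000000011800800000000080080000000086008000000000000000000000000000000000041000000000000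
set_option linter.all false
open scoped Cfsg.Agent.FastGrp

-- part: H503/El/FiveT
section
/-!
# TEAM ELUSIVE: tools for `Ω⁺₈(2)` (helper503)
-/

set_option autoImplicit false

namespace Cfsg.Agent.H503.El.Fix

open Subgroup Cfsg.Agent.H970.StabNum Cfsg.Agent.H278.El Cfsg.Agent.H396

/-- two `T`-classes of subgroups of order `p` force `p ^ 2` to divide the order -/
theorem derT_of_two {T : Type*} [Group T] [Finite T] {p : ℕ} (hp : p.Prime) (R : Subgroup T)
    (hR : ¬ p ^ 2 ∣ Nat.card R) {y1 y2 : T} (h1 : orderOf y1 = p) (h2 : orderOf y2 = p)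
    (hno : ∀ g : T, y2 ∉ zpowers (g * y1 * g⁻¹)) : DerT T R := by
  classical
  have := Fact.mk hp
  by_contra hder
  obtain ⟨g1, hφ1⟩ := exists_conj_of_not_derT hder y1 (by rw [h1]; exact hp)
  obtain ⟨g2, hφ2⟩ := exists_conj_of_not_derT hder y2 (by rw [h2]; exact hp)
  have ho1 : orderOf (⟨_, hφ1⟩ : R) = p := by
    rw [Subgroup.orderOf_mk, ← MulAut.conj_apply, MulEquiv.orderOf_eq, h1]
  have ho2 : orderOf (⟨_, hφ2⟩ : R) = p := by
    rw [Subgroup.orderOf_mk, ← MulAut.conj_apply, MulEquiv.orderOf_eq, h2]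
  obtain ⟨P, hP⟩ := exists_sylow_of_card (T := R) hR (P := zpowers ⟨_, hφ1⟩) (by rw [Nat.card_zpowers, ho1])
  obtain ⟨Q, hQ⟩ := exists_sylow_of_card (T := R) hR (P := zpowers ⟨_, hφ2⟩) (by rw [Nat.card_zpowers, ho2])
  obtain ⟨g, hg⟩ := MulAction.exists_smul_eq R P Q
  have hmem : (⟨_, hφ2⟩ : R) ∈ (Q : Subgroup R) := by rw [hQ]; exact mem_zpowers _
  rw [← hg, Sylow.coe_subgroup_smul, hP] at hmem
  obtain ⟨w, hw, hwq⟩ := hmem
  obtain ⟨k, rfl⟩ := Subgroup.mem_zpowers_iff.1 hw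
  have h3 : (g : T) * (g1 * y1 * g1⁻¹) ^ k * (g : T)⁻¹ = g2 * y2 * g2⁻¹ := congrArg Subtype.val hwq
  refine hno (g2⁻¹ * g * g1) ?_
  rw [Subgroup.mem_zpowers_iff]
  refine ⟨k, ?_⟩
  rw [conj_zpow] at h3 ⊢
  calc g2⁻¹ * g * g1 * y1 ^ k * (g2⁻¹ * g * g1)⁻¹ = g2⁻¹ * (g * (g1 * y1 ^ k * g1⁻¹) * (g : T)⁻¹) * g2 := by group
    _ = y2 := by rw [h3]; group

/-- an involution moving the halves of its fixed space commutes with no element of order `5` -/
theorem no_five {S V : Type*} [Group S] [CommGroup V] [Finite V] [MulDistribMulAction S V]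
    (hV : Nat.card V = 256) (hv2 : ∀ v : V, v * v = 1) {t y : S} (ht2 : ∀ v : V, t • t • v = v) (hy : orderOf y = 5)
    (hyn : ¬ ∀ v : V, y • y • v = v) (hc : t * y = y * t) (Z : Set V) (hZ : ∀ v, y • v ∈ Z ↔ v ∈ Z)
    (h1 : Nat.card {v : V // t • v = v ∧ v ∈ Z} = 8) (h2 : Nat.card {v : V // t • v = v ∧ v ∉ Z} = 8) : False := by
  classical
  let M : Subgroup V :=
    { carrier := {v | t • v = v}
      one_mem' := smul_one _
      mul_mem' := by
        intro v w hv hw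
        show t • (v * w) = v * w
        rw [smul_mul', show t • v = v from hv, show t • w = w from hw]
      inv_mem' := by
        intro v hv
        show t • v⁻¹ = v⁻¹
        rw [smul_inv', show t • v = v from hv] }
  let C : Subgroup V :=
    { carrier := {v | y • v = v}
      one_mem' := smul_one _
      mul_mem' := by
        intro v w hv hw
        show y • (v * w) = v * w
        rw [smul_mul', show y • v = v from hv, show y • w = w from hw]
      inv_mem' := by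
        intro v hv
        show y • v⁻¹ = v⁻¹
        rw [smul_inv', show y • v = v from hv] }
  have hyM : ∀ v : V, t • v = v → t • y • v = y • v := by
    intro v hv
    rw [← mul_smul, hc, mul_smul, hv]
  set s1 : Set V := {v | t • v = v ∧ v ∈ Z} with hs1
  set s2 : Set V := {v | t • v = v ∧ v ∉ Z} with hs2
  have e1 := card_mod (p := 5) (by norm_num) hy s1 (fun v hv => ⟨hyM v hv.1, (hZ v).2 hv.2⟩)
  have e2 := card_mod (p := 5) (by norm_num) hy s2 (fun v hv => ⟨hyM v hv.1, fun h => hv.2 ((hZ v).1 h)⟩)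
  have c1 : Nat.card s1 = 8 := h1
  have c2 : Nat.card s2 = 8 := h2
  rw [c1] at e1
  rw [c2] at e2
  -- fixed points
  have hsum : ∀ (P : V → Prop), Nat.card {v : V // t • v = v ∧ P v} =
      Nat.card {v : V // v ∈ s1 ∧ P v} + Nat.card {v : V // v ∈ s2 ∧ P v} := by
    intro P
    have := Fintype.ofFinite V
    rw [Nat.card_eq_fintype_card, Nat.card_eq_fintype_card, Nat.card_eq_fintype_card, Fintype.card_subtype,
      Fintype.card_subtype, Fintype.card_subtype, ← Finset.card_union_of_disjoint]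
    · congr 1
      ext v
      simp only [Finset.mem_filter, Finset.mem_univ, true_and, Finset.mem_union, hs1, hs2, Set.mem_setOf_eq]
      (clear * -; tauto)
    · rw [Finset.disjoint_left]
      intro v hv hv'
      simp only [Finset.mem_filter, Finset.mem_univ, true_and, hs1, hs2, Set.mem_setOf_eq] at hv hv'
      exact hv'.1.2 hv.1.2
  have hMC : Nat.card (M ⊓ C : Subgroup V) = Nat.card {v : V // v ∈ s1 ∧ y • v = v} +
      Nat.card {v : V // v ∈ s2 ∧ y • v = v} := by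
    rw [← hsum]
    rfl
  have hM16 : Nat.card M = 16 := by
    have h3 := hsum (fun _ => True)
    have h4 : Nat.card M = Nat.card {v : V // t • v = v ∧ True} :=
      Nat.card_congr ⟨fun v => ⟨v.1, v.2, trivial⟩, fun v => ⟨v.1, v.2.1⟩, fun _ => rfl, fun _ => rfl⟩
    have h5 : Nat.card {v : V // v ∈ s1 ∧ True} = 8 := by
      rw [← c1]
      exact Nat.card_congr ⟨fun v => ⟨v.1, v.2.1⟩, fun v => ⟨v.1, v.2, trivial⟩, fun _ => rfl, fun _ => rfl⟩
    have h6 : Nat.card {v : V // v ∈ s2 ∧ True} = 8 := by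
      rw [← c2]
      exact Nat.card_congr ⟨fun v => ⟨v.1, v.2.1⟩, fun v => ⟨v.1, v.2, trivial⟩, fun _ => rfl, fun _ => rfl⟩
    rw [h4, h3, h5, h6]
  have hle1 : Nat.card {v : V // v ∈ s1 ∧ y • v = v} ≤ 8 := by
    rw [← c1]
    exact Nat.card_le_card_of_injective (fun v => (⟨v.1, v.2.1⟩ : s1))
      (fun a b h => Subtype.ext (congrArg (fun z : s1 => z.1) h))
  have hle2 : Nat.card {v : V // v ∈ s2 ∧ y • v = v} ≤ 8 := by
    rw [← c2]
    exact Nat.card_le_card_of_injective (fun v => (⟨v.1, v.2.1⟩ : s2))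
      (fun a b h => Subtype.ext (congrArg (fun z : s2 => z.1) h))
  have hdvd : Nat.card (M ⊓ C : Subgroup V) ∣ 16 := hM16 ▸ Subgroup.card_dvd_of_le inf_le_left
  have h16 : Nat.card (M ⊓ C : Subgroup V) = 16 := by
    unfold Nat.ModEq at e1 e2
    obtain ⟨k, hk⟩ := hdvd
    have h3 : Nat.card {v : V // v ∈ s1 ∧ y • v = v} = 3 ∨ Nat.card {v : V // v ∈ s1 ∧ y • v = v} = 8 := by omega
    have h4 : Nat.card {v : V // v ∈ s2 ∧ y • v = v} = 3 ∨ Nat.card {v : V // v ∈ s2 ∧ y • v = v} = 8 := by omega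
    rcases h3 with h3 | h3 <;> rcases h4 with h4 | h4 <;> rw [h3, h4] at hMC <;> rw [hMC] at hk ⊢ <;> (clear * - hk; omega)
  have hle : M ≤ C := by
    have h3 : M ⊓ C = M := Subgroup.eq_of_le_of_card_ge inf_le_left (by rw [h16, hM16])
    rw [← h3]
    exact inf_le_right
  have hMy : ∀ v : V, t • v = v → y • v = v := fun v hv => hle hv
  have hinv : ∀ v : V, v⁻¹ = v := fun v => inv_eq_of_mul_eq_one_left (hv2 v)
  -- `δ v = t v * v`
  have hδ : ∀ v : V, t • (t • v * v) = t • v * v := by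
    intro v
    rw [smul_mul', ht2, mul_comm]
  apply hyn
  intro v
  -- `m = y v * v` is fixed by `t`
  have hm : t • (y • v * v) = y • v * v := by
    have h3 := hMy _ (hδ v)
    rw [smul_mul', ← mul_smul, ← hc, mul_smul] at h3
    -- `t y v * y v = t v * v`
    rw [smul_mul']
    have h4 : t • y • v = t • v * v * y • v := by
      rw [← h3, mul_assoc, hv2, mul_one]
    rw [h4]
    calc t • v * v * y • v * t • v = (t • v * t • v) * (v * y • v) := by
          rw [mul_assoc (t • v) v, mul_comm (t • v * (v * y • v)) (t • v), ← mul_assoc]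
      _ = y • v * v := by rw [hv2, one_mul, mul_comm]
  have hm2 := hMy _ hm
  rw [smul_mul'] at hm2
  have h5 : y • y • v * y • v * (y • v) = y • v * v * (y • v) := by rw [hm2]
  rw [mul_assoc, hv2, mul_one] at h5
  rw [h5, mul_comm (y • v) v, mul_assoc, hv2, mul_one]

end Cfsg.Agent.H503.El.Fix
end

-- part: H503/El/O8Mat
section
/-!
# TEAM ELUSIVE: `Ω⁺₈(2)`, explicit matrices (helper503)
-/

set_option autoImplicit false
set_option maxRecDepth 100000

namespace Cfsg.Agent.H503.El.O8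

open Cfsg

/-- index type -/
abbrev I8 := Fin 4 ⊕ Fin 4

/-- matrices -/
abbrev M8 := Matrix I8 I8 (ZMod 2)

/-- the quadratic form -/
abbrev Q8 : (I8 → ZMod 2) → ZMod 2 := quadFormPlus 4 (ZMod 2)

def A1 : M8 := Matrix.fromBlocks !![1,0,0,0; 0,0,0,0; 0,0,1,0; 0,0,0,0] !![0,0,0,0; 0,1,0,0; 0,0,0,0; 0,0,0,1] !![0,0,0,0; 0,1,0,0; 0,0,0,0; 0,0,0,1] !![1,0,0,0; 0,0,0,0; 0,0,1,0; 0,0,0,0]
def B1 : M8 := Matrix.fromBlocks !![1,0,0,1; 0,1,0,0; 0,0,1,1; 0,0,0,1] !![0,0,0,0; 0,0,0,0; 0,0,0,0; 0,0,0,0] !![0,0,0,1; 0,0,0,1; 0,0,0,0; 1,1,0,1] !![1,0,0,0; 0,1,0,0; 0,0,1,0; 1,0,1,1]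
def A2 : M8 := Matrix.fromBlocks !![0,0,0,0; 0,0,0,0; 1,0,1,0; 0,0,1,1] !![1,1,1,1; 1,0,1,1; 1,1,1,0; 1,1,0,0] !![0,1,0,0; 1,1,0,0; 0,0,0,0; 0,0,0,0] !![0,0,1,0; 0,0,0,0; 0,0,1,1; 0,0,0,1]
def B2 : M8 := Matrix.fromBlocks !![0,1,0,0; 0,1,0,0; 0,0,0,0; 0,1,0,1] !![0,0,1,0; 0,0,0,0; 1,0,0,0; 0,0,0,0] !![0,0,1,0; 0,1,1,1; 1,1,0,0; 0,1,0,0] !![0,0,0,0; 1,1,0,1; 0,0,0,0; 0,0,0,1]
def A3 : M8 := Matrix.fromBlocks !![1,0,0,1; 0,0,0,0; 0,0,0,0; 0,0,0,0] !![1,1,1,1; 1,1,0,1; 1,0,1,1; 1,1,1,1] !![0,0,0,0; 0,0,1,1; 0,1,0,1; 0,1,1,1] !![1,0,0,0; 0,0,0,0; 0,0,0,0; 1,0,0,0]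
def B3 : M8 := Matrix.fromBlocks !![1,1,0,0; 0,0,0,0; 0,0,0,0; 0,0,0,0] !![1,1,0,0; 1,1,0,0; 0,0,1,0; 0,0,0,1] !![0,0,0,0; 0,1,0,0; 0,0,1,0; 0,0,0,1] !![1,0,0,0; 1,0,0,0; 0,0,0,0; 0,0,0,0]

theorem A1_sq : A1 * A1 = 1 := by decide +kernel
theorem B1_sq : B1 * B1 = 1 := by decide +kernel
theorem A2_sq : A2 * A2 = 1 := by decide +kernel
theorem B2_sq : B2 * B2 = 1 := by decide +kernel
theorem A3_sq : A3 * A3 = 1 := by decide +kernel
theorem B3_sq : B3 * B3 = 1 := by decide +kernel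

theorem altQ8 (D : I8 → I8 → ZMod 2) (h0 : ∀ i, D i i = 0) (h1 : ∀ i j, D i j + D j i = 0) (v : I8 → ZMod 2) :
    ∑ i, ∑ j, D i j * (v i * v j) = 0 := by
  rw [← Fintype.sum_prod_type']
  refine Finset.sum_involution (fun p _ => p.swap) (fun p _ => ?_) (fun p _ hp h => hp ?_) (fun _ _ => Finset.mem_univ _)
    (fun p _ => Prod.swap_swap p)
  · show D p.1 p.2 * (v p.1 * v p.2) + D p.2 p.1 * (v p.2 * v p.1) = 0
    rw [mul_comm (v p.2), ← add_mul, h1, zero_mul]
  · have h2 : p.2 = p.1 := congrArg Prod.fst h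
    rw [h2, h0, zero_mul]

/-- the coefficients of the form `Q8 (M v)` -/
def cfQ8 (M : M8) (i j : I8) : ZMod 2 :=
  M (.inl 0) i * M (.inr 0) j + M (.inl 1) i * M (.inr 1) j + M (.inl 2) i * M (.inr 2) j + M (.inl 3) i * M (.inr 3) j

theorem cfQ8_eq (M : M8) (v : I8 → ZMod 2) : Q8 (M.mulVec v) = ∑ i, ∑ j, cfQ8 M i j * (v i * v j) := by
  have h : ∀ k : Fin 4, M.mulVec v (.inl k) * M.mulVec v (.inr k) =
      ∑ i, ∑ j, M (.inl k) i * M (.inr k) j * (v i * v j) := fun k => by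
    show (∑ i, M (.inl k) i * v i) * (∑ j, M (.inr k) j * v j) = _
    rw [Finset.sum_mul_sum]
    exact Finset.sum_congr rfl fun i _ => Finset.sum_congr rfl fun j _ => mul_mul_mul_comm _ _ _ _
  show ∑ k : Fin 4, M.mulVec v (.inl k) * M.mulVec v (.inr k) = _
  rw [Fin.sum_univ_four, h, h, h, h]
  simp only [cfQ8, add_mul, Finset.sum_add_distrib]

theorem isoQ8 (M : M8) (h0 : ∀ i, cfQ8 M i i = 0)
    (h1 : ∀ i j, cfQ8 M i j + cfQ8 M j i = cfQ8 1 i j + cfQ8 1 j i) (v : I8 → ZMod 2) : Q8 (M.mulVec v) = Q8 v := by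
  have h2 : ∀ i, cfQ8 1 i i = 0 := by decide +kernel
  have h3 := altQ8 (fun i j => cfQ8 M i j - cfQ8 1 i j) (fun i => by rw [h0, h2, sub_zero])
    (fun i j => by rw [sub_add_sub_comm, h1, sub_self]) v
  simp only [sub_mul, Finset.sum_sub_distrib] at h3
  rw [← cfQ8_eq, ← cfQ8_eq, Matrix.one_mulVec] at h3
  exact sub_eq_zero.1 h3

theorem A1_iso : ∀ v, Q8 (A1.mulVec v) = Q8 v := isoQ8 A1 (by decide +kernel) (by decide +kernel)
theorem B1_iso : ∀ v, Q8 (B1.mulVec v) = Q8 v := isoQ8 B1 (by decide +kernel) (by decide +kernel)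
theorem A2_iso : ∀ v, Q8 (A2.mulVec v) = Q8 v := isoQ8 A2 (by decide +kernel) (by decide +kernel)
theorem B2_iso : ∀ v, Q8 (B2.mulVec v) = Q8 v := isoQ8 B2 (by decide +kernel) (by decide +kernel)
theorem A3_iso : ∀ v, Q8 (A3.mulVec v) = Q8 v := isoQ8 A3 (by decide +kernel) (by decide +kernel)
theorem B3_iso : ∀ v, Q8 (B3.mulVec v) = Q8 v := isoQ8 B3 (by decide +kernel) (by decide +kernel)

/-- the products -/
def Y1 : M8 := A1 * B1 * A1 * B1
def Y2 : M8 := A2 * B2 * A2 * B2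
def T3 : M8 := A3 * B3 * A3 * B3

private noncomputable def _root_.Cfsg.Agent.LsF.f041d41_0 : {f // @Cfsg.Agent.H503.El.O8.A1 = f} := ⟨_, by first | (delta Cfsg.Agent.H503.El.O8.A1; rewrite [Cfsg.Agent.LsF.mof_pat, Cfsg.Agent.LsF.vecCons_eq]; exact rfl) | exact rfl⟩
private noncomputable def _root_.Cfsg.Agent.LsF.f041d41_1 : {f // @Cfsg.Agent.H503.El.O8.B1 = f} := ⟨_, by first | (delta Cfsg.Agent.H503.El.O8.B1; rewrite [Cfsg.Agent.LsF.mof_pat, Cfsg.Agent.LsF.vecCons_eq]; exact rfl) | exact rfl⟩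
private noncomputable def _root_.Cfsg.Agent.LsF.f041d41_2 : {f // @Cfsg.Agent.H503.El.O8.Y1 = f} := ⟨_, by first | (delta Cfsg.Agent.H503.El.O8.Y1; rewrite [Cfsg.Agent.LsF.f041d41_0.2, Cfsg.Agent.LsF.f041d41_1.2, Cfsg.Agent.LsF.finFintype_eq, Cfsg.Agent.LsF.instMHMul_eq, Cfsg.Agent.LsF.instZMul_pat, Cfsg.Agent.LsF.zACM_pat]; exact rfl) | exact rfl⟩
theorem Y1_props : Y1 ^ 5 = 1 ∧ Y1 ≠ 1 := by (refine of_decide_eq_true ?_; (try (rewrite [Cfsg.Agent.LsF.f041d41_2.2, Cfsg.Agent.LsF.mpow_pat, Cfsg.Agent.LsF.zdecEq_eq, Cfsg.Agent.LsF.finFintype_eq, Cfsg.Agent.LsF.dMat_eq, Cfsg.Agent.LsF.instMOne_eq, Cfsg.Agent.LsF.instZMul_pat, Cfsg.Agent.LsF.zACM_pat, Cfsg.Agent.LsF.dAnd_eq, Cfsg.Agent.LsF.dNot_eq, Cfsg.Agent.LsF.dFinEq_eq, Cfsg.Agent.LsF.decide_eq])); decide +kernel)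
private noncomputable def _root_.Cfsg.Agent.LsF.f041d41_3 : {f // @Cfsg.Agent.H503.El.O8.A2 = f} := ⟨_, by first | (delta Cfsg.Agent.H503.El.O8.A2; rewrite [Cfsg.Agent.LsF.mof_pat, Cfsg.Agent.LsF.vecCons_eq]; exact rfl) | exact rfl⟩
private noncomputable def _root_.Cfsg.Agent.LsF.f041d41_4 : {f // @Cfsg.Agent.H503.El.O8.B2 = f} := ⟨_, by first | (delta Cfsg.Agent.H503.El.O8.B2; rewrite [Cfsg.Agent.LsF.mof_pat, Cfsg.Agent.LsF.vecCons_eq]; exact rfl) | exact rfl⟩
private noncomputable def _root_.Cfsg.Agent.LsF.f041d41_5 : {f // @Cfsg.Agent.H503.El.O8.Y2 = f} := ⟨_, by first | (delta Cfsg.Agent.H503.El.O8.Y2; rewrite [Cfsg.Agent.LsF.f041d41_3.2, Cfsg.Agent.LsF.f041d41_4.2, Cfsg.Agent.LsF.finFintype_eq, Cfsg.Agent.LsF.instMHMul_eq, Cfsg.Agent.LsF.instZMul_pat, Cfsg.Agent.LsF.zACM_pat]; exact rfl) | exact rfl⟩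
theorem Y2_props : Y2 ^ 5 = 1 ∧ Y2 ≠ 1 ∧ Y2 ^ 4 + Y2 ^ 3 + Y2 ^ 2 + Y2 + 1 = 0 := by (refine of_decide_eq_true ?_; (try (rewrite [Cfsg.Agent.LsF.madd_pat, Cfsg.Agent.LsF.f041d41_5.2, Cfsg.Agent.LsF.mpow_pat, Cfsg.Agent.LsF.zadd_pat, Cfsg.Agent.LsF.zdecEq_eq, Cfsg.Agent.LsF.finFintype_eq, Cfsg.Agent.LsF.dMat_eq, Cfsg.Agent.LsF.instMOne_eq, Cfsg.Agent.LsF.instZMul_pat, Cfsg.Agent.LsF.zACM_pat, Cfsg.Agent.LsF.dAnd_eq, Cfsg.Agent.LsF.dNot_eq, Cfsg.Agent.LsF.dFinEq_eq, Cfsg.Agent.LsF.decide_eq])); decide +kernel)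
private noncomputable def _root_.Cfsg.Agent.LsF.f041d41_6 : {f // @Cfsg.Agent.H503.El.O8.A3 = f} := ⟨_, by first | (delta Cfsg.Agent.H503.El.O8.A3; rewrite [Cfsg.Agent.LsF.mof_pat, Cfsg.Agent.LsF.vecCons_eq]; exact rfl) | exact rfl⟩
private noncomputable def _root_.Cfsg.Agent.LsF.f041d41_7 : {f // @Cfsg.Agent.H503.El.O8.B3 = f} := ⟨_, by first | (delta Cfsg.Agent.H503.El.O8.B3; rewrite [Cfsg.Agent.LsF.mof_pat, Cfsg.Agent.LsF.vecCons_eq]; exact rfl) | exact rfl⟩
private noncomputable def _root_.Cfsg.Agent.LsF.f041d41_8 : {f // @Cfsg.Agent.H503.El.O8.T3 = f} := ⟨_, by first | (delta Cfsg.Agent.H503.El.O8.T3; rewrite [Cfsg.Agent.LsF.f041d41_6.2, Cfsg.Agent.LsF.f041d41_7.2, Cfsg.Agent.LsF.finFintype_eq, Cfsg.Agent.LsF.instMHMul_eq, Cfsg.Agent.LsF.instZMul_pat, Cfsg.Agent.LsF.zACM_pat]; exact rfl) | exact rfl⟩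
theorem T3_props : T3 ^ 2 = 1 ∧ T3 ≠ 1 := by (refine of_decide_eq_true ?_; (try (rewrite [Cfsg.Agent.LsF.f041d41_8.2, Cfsg.Agent.LsF.mpow_pat, Cfsg.Agent.LsF.zdecEq_eq, Cfsg.Agent.LsF.finFintype_eq, Cfsg.Agent.LsF.dMat_eq, Cfsg.Agent.LsF.instMOne_eq, Cfsg.Agent.LsF.instZMul_pat, Cfsg.Agent.LsF.zACM_pat, Cfsg.Agent.LsF.dAnd_eq, Cfsg.Agent.LsF.dNot_eq, Cfsg.Agent.LsF.dFinEq_eq, Cfsg.Agent.LsF.decide_eq])); decide +kernel)
theorem Y1_fix : ∃ v : I8 → ZMod 2, v ≠ 0 ∧ Y1.mulVec v = v := by (refine of_decide_eq_true ?_; (try (rewrite [Cfsg.Agent.LsF.f041d41_2.2, Cfsg.Agent.LsF.zdecEq_eq, Cfsg.Agent.LsF.finFintype_eq, Cfsg.Agent.LsF.zFintype_eq, Cfsg.Agent.LsF.dExists_eq, Cfsg.Agent.LsF.dPi_eq, Cfsg.Agent.LsF.mulVec_eq, Cfsg.Agent.LsF.dAnd_eq, Cfsg.Agent.LsF.dNot_eq, Cfsg.Agent.LsF.dFinEq_eq, Cfsg.Agent.LsF.decide_eq])); decide +kernel)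
private noncomputable def _root_.Cfsg.Agent.LsF.f041d41_9 : {f // @Cfsg.Agent.H503.El.O8.Q8 = f} := ⟨_, by first | (delta Cfsg.Agent.H503.El.O8.Q8 Cfsg.quadFormPlus; rewrite [Cfsg.Agent.LsF.sumF_pat, Cfsg.Agent.LsF.zadd_pat, Cfsg.Agent.LsF.zmul_pat, Cfsg.Agent.LsF.zACM_pat]; exact rfl) | exact rfl⟩
theorem T3_card0 : (Finset.univ.filter fun v : I8 → ZMod 2 => T3.mulVec v = v ∧ Q8 v = 0).card = 8 := by
  (refine of_decide_eq_true ?_; (try (rewrite [Cfsg.Agent.LsF.f041d41_8.2, Cfsg.Agent.LsF.f041d41_9.2, Cfsg.Agent.LsF.zdecEq_eq, Cfsg.Agent.LsF.finFintype_eq, Cfsg.Agent.LsF.zFintype_eq, Cfsg.Agent.LsF.dPi_eq, Cfsg.Agent.LsF.fcard_eq, Cfsg.Agent.LsF.ffilter_eq, Cfsg.Agent.LsF.mulVec_eq, Cfsg.Agent.LsF.instDecEq_eq, Cfsg.Agent.LsF.dAnd_eq, Cfsg.Agent.LsF.dFinEq_eq, Cfsg.Agent.LsF.decide_eq])); decide +kernel)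
theorem T3_card1 : (Finset.univ.filter fun v : I8 → ZMod 2 => T3.mulVec v = v ∧ ¬ Q8 v = 0).card = 8 := by
  (refine of_decide_eq_true ?_; (try (rewrite [Cfsg.Agent.LsF.f041d41_8.2, Cfsg.Agent.LsF.f041d41_9.2, Cfsg.Agent.LsF.zdecEq_eq, Cfsg.Agent.LsF.finFintype_eq, Cfsg.Agent.LsF.zFintype_eq, Cfsg.Agent.LsF.dPi_eq, Cfsg.Agent.LsF.fcard_eq, Cfsg.Agent.LsF.ffilter_eq, Cfsg.Agent.LsF.mulVec_eq, Cfsg.Agent.LsF.instDecEq_eq, Cfsg.Agent.LsF.dAnd_eq, Cfsg.Agent.LsF.dNot_eq, Cfsg.Agent.LsF.dFinEq_eq, Cfsg.Agent.LsF.decide_eq])); decide +kernel)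

end Cfsg.Agent.H503.El.O8
end

-- part: H503/El/O8
section
/-!
# TEAM ELUSIVE: `Ω⁺₈(2)` (helper503)
-/

set_option autoImplicit false

namespace Cfsg.Agent.H503.El.O8

open Subgroup Cfsg.Agent.H970.StabNum Cfsg.Agent.H278.El Cfsg.Agent.H396 Cfsg.Agent

/-- the linear group -/
abbrev S8 := Omega (ZMod 2) Q8

/-- the simple group -/
abbrev T8 := POmega (ZMod 2) Q8

/-- the matrices of the elements -/
def rho : S8 →* M8 :=
  (Units.coeHom M8).comp ((isometryGroup (ZMod 2) Q8).subtype.comp (Omega (ZMod 2) Q8).subtype)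

theorem rho_injective : Function.Injective rho := by
  intro a b h
  exact Subtype.ext (Subtype.ext (Units.ext h))

theorem rho_iso (g : S8) (v : I8 → ZMod 2) : Q8 ((rho g).mulVec v) = Q8 v :=
  ClassicalGeometry.IsoTransfer.mem_isometryGroup_iff.1 g.1.2 v

/-- the isometries with the given involutory matrices -/
def isoOf (A : M8) (h : A * A = 1) (hA : ∀ v, Q8 (A.mulVec v) = Q8 v) : isometryGroup (ZMod 2) Q8 :=
  ⟨⟨A, A, h, h⟩, ClassicalGeometry.IsoTransfer.mem_isometryGroup_iff.2 hA⟩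

/-- a commutator of involutions -/
def comOf (A B : M8) (hA2 : A * A = 1) (hB2 : B * B = 1) (hA : ∀ v, Q8 (A.mulVec v) = Q8 v)
    (hB : ∀ v, Q8 (B.mulVec v) = Q8 v) : S8 :=
  ⟨isoOf A hA2 hA * isoOf B hB2 hB * (isoOf A hA2 hA)⁻¹ * (isoOf B hB2 hB)⁻¹, by
    show _ ∈ _root_.commutator (isometryGroup (ZMod 2) Q8)
    rw [commutator_def]
    exact Subgroup.commutator_mem_commutator (Subgroup.mem_top _) (Subgroup.mem_top _)⟩

theorem rho_comOf (A B : M8) (hA2 : A * A = 1) (hB2 : B * B = 1) (hA : ∀ v, Q8 (A.mulVec v) = Q8 v)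
    (hB : ∀ v, Q8 (B.mulVec v) = Q8 v) : rho (comOf A B hA2 hB2 hA hB) = A * B * A * B := by
  rfl

attribute [irreducible] comOf

theorem card_t8 : Nat.card T8 = 174182400 := by
  have hord := Cfsg.Agent.S0293.result (F := ZMod 2) (q := 2) (by rw [ZMod.card]) 4 (by norm_num)
  rw [show Nat.gcd 4 (2 ^ 4 - 1) = 1 by norm_num] at hord
  simp only [Nat.reduceSub, Finset.prod_range_succ, Finset.prod_range_zero] at hord
  norm_num only [_root_.one_mul] at hord ⊢
  omega

/-- the centre is trivial -/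
theorem center_s8 : center S8 = ⊥ := by
  rw [eq_bot_iff]
  intro z hz
  have hnd := LieClassical.OmegaReindex.quadPlus_nondegenerate (m := 4) (F := ZMod 2)
  have hz' : z ∈ center (Omega (ZMod 2) (⇑(LieClassical.OmegaReindex.quadPlus 4 (ZMod 2)))) := hz
  have h1 := (LieClassical.OrthCenter.mem_center_omega_iff hnd (by simp) ⟨Pi.single (.inl 0) 1, by
      intro h
      have := congrFun h (.inl 0)
      simp only [_root_.Fin.isValue, _root_.Pi.single_eq_same, _root_.Pi.zero_apply, _root_.one_ne_zero] at this, by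
      rw [LieClassical.OmegaReindex.coe_quadPlus]
      unfold quadFormPlus
      simp⟩ z).1 hz'
  have h2 : rho z = 1 := by
    rcases h1 with h | h
    · exact h
    · have h3 : rho z = -1 := h
      rw [h3]
      ext i j
      rw [Matrix.neg_apply, CharTwo.neg_eq]
  exact Subgroup.mem_bot.2 (rho_injective (h2.trans (map_one rho).symm))

/-- the projection is an isomorphism -/
noncomputable def e8 : S8 ≃* T8 :=
  MulEquiv.ofBijective (QuotientGroup.mk' (center S8))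
    ⟨by rw [← MonoidHom.ker_eq_bot_iff, QuotientGroup.ker_mk', center_s8], QuotientGroup.mk'_surjective _⟩

instance : Finite T8 := Nat.finite_of_card_ne_zero (by rw [card_t8]; norm_num)

instance : IsSimpleGroup T8 := S0296.result 4 le_rfl

/-- the elements -/
def y1 : S8 := comOf A1 B1 A1_sq B1_sq A1_iso B1_iso
def y2 : S8 := comOf A2 B2 A2_sq B2_sq A2_iso B2_iso
def t3 : S8 := comOf A3 B3 A3_sq B3_sq A3_iso B3_iso

theorem rho_y1 : rho y1 = Y1 := rho_comOf _ _ _ _ _ _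
theorem rho_y2 : rho y2 = Y2 := rho_comOf _ _ _ _ _ _
theorem rho_t3 : rho t3 = T3 := rho_comOf _ _ _ _ _ _

attribute [irreducible] y1 y2 t3
attribute [local irreducible] Y1 Y2 T3

theorem order_y1 : orderOf y1 = 5 := by
  haveI : Fact (Nat.Prime 5) := ⟨by norm_num⟩
  exact orderOf_eq_prime (rho_injective (by rw [map_pow, rho_y1, map_one]; exact Y1_props.1))
    (fun h => Y1_props.2 (by rw [← rho_y1, h, map_one]))

theorem order_y2 : orderOf y2 = 5 := by
  haveI : Fact (Nat.Prime 5) := ⟨by norm_num⟩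
  exact orderOf_eq_prime (rho_injective (by rw [map_pow, rho_y2, map_one]; exact Y2_props.1))
    (fun h => Y2_props.2.1 (by rw [← rho_y2, h, map_one]))

theorem order_t3 : orderOf t3 = 2 := by
  haveI : Fact (Nat.Prime 2) := ⟨by norm_num⟩
  exact orderOf_eq_prime (rho_injective (by rw [map_pow, rho_t3, map_one]; exact T3_props.1))
    (fun h => T3_props.2 (by rw [← rho_t3, h, map_one]))

/-- the action -/
@[reducible] def act8 : MulDistribMulAction S8 (Multiplicative (I8 → ZMod 2)) := actOf rho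

attribute [local instance] act8

theorem smul_def (g : S8) (v : Multiplicative (I8 → ZMod 2)) :
    g • v = Multiplicative.ofAdd ((rho g).mulVec (Multiplicative.toAdd v)) := rfl

theorem smul_y1 (v : I8 → ZMod 2) : y1 • (Multiplicative.ofAdd v : Multiplicative (I8 → ZMod 2)) =
    Multiplicative.ofAdd (Y1.mulVec v) := by
  rw [smul_def, rho_y1]; rfl

theorem smul_y2 (v : Multiplicative (I8 → ZMod 2)) : y2 • v =
    Multiplicative.ofAdd (Y2.mulVec (Multiplicative.toAdd v)) := by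
  rw [smul_def, rho_y2]

theorem smul_t3 (v : Multiplicative (I8 → ZMod 2)) : t3 • v =
    Multiplicative.ofAdd (T3.mulVec (Multiplicative.toAdd v)) := by
  rw [smul_def, rho_t3]

theorem card_v8 : Nat.card (Multiplicative (I8 → ZMod 2)) = 256 := by
  have h3 : Nat.card (Multiplicative (I8 → ZMod 2)) = Nat.card (I8 → ZMod 2) := rfl
  rw [h3, Nat.card_eq_fintype_card, Fintype.card_fun, ZMod.card, Fintype.card_sum, Fintype.card_fin]
  norm_num

theorem add_self8 (v : I8 → ZMod 2) : v + v = 0 := CharTwo.add_self_eq_zero v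

theorem sq8 (v : Multiplicative (I8 → ZMod 2)) : v * v = 1 := by
  show Multiplicative.ofAdd (Multiplicative.toAdd v + Multiplicative.toAdd v) = 1
  rw [add_self8, ofAdd_zero]

theorem y2_fpf (v : Multiplicative (I8 → ZMod 2)) (hv : y2 • v = v) : v = 1 := by
  rw [smul_y2] at hv
  have h3 : Y2.mulVec (Multiplicative.toAdd v) = Multiplicative.toAdd v := hv
  have hp : ∀ k : ℕ, (Y2 ^ k).mulVec (Multiplicative.toAdd v) = Multiplicative.toAdd v := by
    intro k
    induction k with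
    | zero => rw [pow_zero, Matrix.one_mulVec]
    | succ k ih => rw [pow_succ, ← Matrix.mulVec_mulVec, h3, ih]
  have h4 := congrArg (fun M => M.mulVec (Multiplicative.toAdd v)) Y2_props.2.2
  simp only [Matrix.add_mulVec, hp, h3, Matrix.one_mulVec, Matrix.zero_mulVec, add_self8, zero_add] at h4
  show Multiplicative.ofAdd (Multiplicative.toAdd v) = 1
  rw [h4, ofAdd_zero]

seal _root_.Finset.sum _root_.dotProduct in
/-- the two classes of elements of order `5` -/
theorem not_conj (g : T8) : e8 y2 ∉ (zpowers (g * e8 y1 * g⁻¹) :) := by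
  intro h
  obtain ⟨k, hk⟩ := Subgroup.mem_zpowers_iff.1 h
  obtain ⟨g', rfl⟩ := e8.surjective g
  simp only [← map_inv, ← map_mul, ← map_mul, ← map_zpow, e8.injective.eq_iff] at hk
  obtain ⟨v, hv0, hv⟩ := Y1_fix
  have h1 : y1 • (Multiplicative.ofAdd v : Multiplicative (I8 → ZMod 2)) = Multiplicative.ofAdd v := by
    rw [smul_y1, hv]
  have h2 : ∀ k : ℤ, y1 ^ k • (Multiplicative.ofAdd v : Multiplicative (I8 → ZMod 2)) = Multiplicative.ofAdd v := by
    intro k
    have h3 : y1 ∈ MulAction.stabilizer S8 (Multiplicative.ofAdd v : Multiplicative (I8 → ZMod 2)) := h1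
    exact zpow_mem h3 k
  have h3 := y2_fpf (g' • Multiplicative.ofAdd v) (by
    simp_rw [← hk, conj_zpow, ← mul_smul, inv_mul_cancel_right, mul_smul, h2])
  have h4 : (Multiplicative.ofAdd v : Multiplicative (I8 → ZMod 2)) = 1 := by
    rw [← inv_smul_smul g' (Multiplicative.ofAdd v : Multiplicative (I8 → ZMod 2)), h3, smul_one]
  exact hv0 (Multiplicative.ofAdd.injective h4)

seal _root_.Finset.sum _root_.dotProduct in
/-- no element of order `5` commutes with `t3` -/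
theorem no_comm (y : S8) (hy : orderOf y = 5) (hc : t3 * y = y * t3) : False := by
  refine Fix.no_five (V := Multiplicative (I8 → ZMod 2)) card_v8 sq8 (t := t3) (y := y) ?_ hy ?_ hc
    {v | Q8 (Multiplicative.toAdd v) = 0} ?_ ?_ ?_
  · intro v
    rw [← mul_smul]
    have h1 : t3 * t3 = 1 := by
      rw [← pow_two]
      exact orderOf_dvd_iff_pow_eq_one.1 (by rw [order_t3])
    rw [h1, one_smul]
  · intro hall
    have h3 : rho (y * y) = 1 := actOf_basis rho (y * y) fun i => by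
      rw [mul_smul]; exact hall _
    have h4 : y * y = 1 := rho_injective (h3.trans (map_one _).symm)
    have h5 : orderOf y ∣ 2 := orderOf_dvd_of_pow_eq_one (by rw [pow_two]; exact h4)
    rw [hy] at h5
    omega
  · intro v
    show Q8 ((rho y).mulVec (Multiplicative.toAdd v)) = 0 ↔ Q8 (Multiplicative.toAdd v) = 0
    rw [rho_iso]
  · have h1 : Nat.card {v : Multiplicative (I8 → ZMod 2) // t3 • v = v ∧ v ∈ {v | Q8 (Multiplicative.toAdd v) = 0}} =
        Nat.card {v : I8 → ZMod 2 // T3.mulVec v = v ∧ Q8 v = 0} := by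
      refine Nat.card_congr (Equiv.subtypeEquiv Multiplicative.toAdd fun v => ?_)
      rw [smul_t3]
      rfl
    rw [h1, Nat.card_eq_fintype_card, Fintype.card_subtype]
    exact T3_card0
  · have h1 : Nat.card {v : Multiplicative (I8 → ZMod 2) // t3 • v = v ∧ v ∉ {v | Q8 (Multiplicative.toAdd v) = 0}} =
        Nat.card {v : I8 → ZMod 2 // T3.mulVec v = v ∧ ¬ Q8 v = 0} := by
      refine Nat.card_congr (Equiv.subtypeEquiv Multiplicative.toAdd fun v => ?_)
      rw [smul_t3]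
      rfl
    rw [h1, Nat.card_eq_fintype_card, Fintype.card_subtype]
    exact T3_card1

seal _root_.Finset.sum _root_.dotProduct in
/-- a subgroup isomorphic to `J₂` misses the class of `t3` -/
theorem not_j2 {R : Subgroup T8} (h : ¬ DerT T8 R) (hJ : Spor.IsoJ2 R) : False := by
  haveI : Fact (Nat.Prime 5) := ⟨by norm_num⟩
  have hot : orderOf (e8 t3) = 2 := by rw [MulEquiv.orderOf_eq, order_t3]
  obtain ⟨g, hg⟩ := exists_conj_of_not_derT h (e8 t3) (by rw [hot]; exact Nat.prime_two)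
  have ho : orderOf (⟨_, hg⟩ : R) = 2 := by
    rw [Subgroup.orderOf_mk, ← MulAut.conj_apply, MulEquiv.orderOf_eq, hot]
  have h5 : 5 ∣ Nat.card (centralizer ({⟨_, hg⟩} : Set R)) := by
    rcases H393.Iso.j2_card hJ ho with h1 | h1 <;> rw [h1] <;> norm_num
  obtain ⟨⟨y, hyc⟩, hy⟩ := exists_prime_orderOf_dvd_card' 5 h5
  rw [Subgroup.orderOf_mk] at hy
  have hc : (y : T8) * (g * e8 t3 * g⁻¹) = (g * e8 t3 * g⁻¹) * y :=
    congrArg Subtype.val (mem_centralizer_singleton_iff.1 hyc)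
  set w := e8.symm (g⁻¹ * y * g) with hw
  have how : orderOf w = 5 := by
    rw [hw, MulEquiv.orderOf_eq]
    have h1 : g⁻¹ * (y : T8) * g = MulAut.conj g⁻¹ (y : T8) := by simp only [MulAut.conj_apply, inv_inv]
    rw [h1, MulEquiv.orderOf_eq, Subgroup.orderOf_coe, hy]
  refine no_comm w how ?_
  apply e8.injective
  simp only [map_mul, map_mul, hw, e8.apply_symm_apply]
  calc e8 t3 * (g⁻¹ * y * g) = g⁻¹ * ((g * e8 t3 * g⁻¹) * y) * g := by group
    _ = g⁻¹ * (y * (g * e8 t3 * g⁻¹)) * g := by simp only [hc]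
    _ = g⁻¹ * y * g * e8 t3 := by group

end Cfsg.Agent.H503.El.O8
end
end

-- part: H503/El/O8Fin
section
prune_inst 0x43042003100000000008010000020004800050000200001f180080609071342808001004a80080600443a811045000000000050001000000a00300000060120000a10041024a000000086003000000000000000000000000000000000041000000000000
set_option linter.all false
open scoped Cfsg.Agent.FastGrp

-- part: H503/El/O8Main
section
/-!
# TEAM ELUSIVE: `Ω⁺₈(2)`, the main theorem (helper503)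
-/

set_option autoImplicit false

namespace Cfsg.Agent.H503.El.O8

open Subgroup Cfsg.Agent.H970.StabNum Cfsg.Agent.H278.El Cfsg.Agent.H396 Cfsg.Agent

set_option maxRecDepth 100000 in
/-- **`Ω⁺₈(2)`: every proper subgroup misses a `T`-class of elements of prime order.** -/
theorem derTAll_t8 (OT : OrdDiv.OrderTable.{0})
    (hS : ∀ (X : Type) [Group X] [Finite X] [IsSimpleGroup X], Cfsg.IsKnownSimple' X)
    (R : Subgroup T8) (hR : R ≠ ⊤) : DerT T8 R := by
  classical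
  haveI h7p : Fact (Nat.Prime 7) := ⟨by norm_num⟩
  have hent : ∀ P : Subgroup T8, Nat.card P = 7 → Nat.card (centralizer (P : Set T8)) ∣ 7 * 1 ∧
      Nat.card (normalizer (P : Set T8)) ∣ 7 * 6 :=
    entry_of_ex (by norm_num) card_t8 (by norm_num) (by norm_num) (by decide +kernel)
      (H732.SelfCent.omega8plus_selfcent (F := ZMod 2) (ZMod.card 2))
  have hD : Data T8 [(7, 1, 6)] [2, 3, 5, 7]
      [60, 168, 360, 504, 2520, 6048, 20160, 25920, 181440, 604800, 1451520, 1814400, 174182400] := by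
    refine mk_data OT hS (l := [(2, 12), (3, 5), (5, 2), (7, 1)]) card_t8 (by decide +kernel) ?_
    intro x hx
    rw [List.mem_singleton] at hx
    subst hx
    exact hent
  by_contra hder
  rcases mem_sub (l := [(2, 12), (3, 5), (5, 2), (7, 1)]) card_t8 (by decide +kernel)
    (by decide +kernel) hD R hR with h | h
  · exact hder (Der.derT h)
  have h1 : (sub 174182400 [(2, 12), (3, 5), (5, 2), (7, 1)] [(7, 1, 6)] [2, 3, 5, 7]
      [60, 168, 360, 504, 2520, 6048, 20160, 25920, 181440, 604800, 1451520, 1814400, 174182400]).all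
        (fun h => h % 25 != 0 || (h == 604800 || h == 4838400)) = true := by decide +kernel
  rw [List.all_eq_true] at h1
  have h2 := h1 _ h
  clear h1 h
  rw [Bool.or_eq_true, Bool.or_eq_true, beq_iff_eq, beq_iff_eq] at h2
  rcases h2 with h2 | h2
  · refine hder (Fix.derT_of_two (p := 5) (by norm_num) R ?_ (y1 := e8 y1) (y2 := e8 y2)
      (by rw [MulEquiv.orderOf_eq, order_y1]) (by rw [MulEquiv.orderOf_eq, order_y2]) not_conj)
    intro h3
    rw [show (5 : ℕ) ^ 2 = 25 by norm_num] at h3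
    rw [Nat.mod_eq_zero_of_dvd h3] at h2
    exact absurd h2 (by decide)
  -- the structure
  have hR7 : 7 ∣ Nat.card R := by rcases h2 with h2 | h2 <;> rw [h2] <;> norm_num
  have hR49 : ¬ 7 ^ 2 ∣ Nat.card R := by rcases h2 with h2 | h2 <;> rw [h2] <;> norm_num
  have hR125 : ¬ 5 ^ 3 ∣ Nat.card R := by rcases h2 with h2 | h2 <;> rw [h2] <;> norm_num
  have hR25 : 25 ∣ Nat.card R := by rcases h2 with h2 | h2 <;> rw [h2] <;> norm_num
  obtain ⟨x, hx⟩ := exists_prime_orderOf_dvd_card' 7 hR7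
  have hP : Nat.card (zpowers x) = 7 := by rw [Nat.card_zpowers, hx]
  have hPm : Nat.card ((zpowers x).map R.subtype) = 7 := by
    rw [← hP]
    exact (Nat.card_congr ((zpowers x).equivMapOfInjective _ R.subtype_injective).toEquiv).symm
  obtain ⟨L, hLn, A, hAn, hs, hA7, hPL, hcard, h7, D, m, hN, hDC, hDA, hpow⟩ := Struct.exists_struct' hP hR49
  have hC7 : Nat.card (centralizer ((zpowers x : Subgroup R) : Set R)) ∣ 7 :=
    (Fix.card_cent_map R.subtype_injective _).trans (by simpa only [_root_.MonoidHom.map_zpowers, _root_.Subgroup.subtype_apply, _root_.Nat.card_eq_fintype_card, _root_.mul_one] using (hent _ hPm).1)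
  have hN42 : Nat.card (normalizer ((zpowers x : Subgroup R) : Set R)) ∣ 42 :=
    (Fix.card_norm_map R.subtype_injective _).trans (hent _ hPm).2
  have hD1 : D = 1 := by
    rcases (Nat.dvd_prime h7p.out).1 (hDC.trans hC7) with h3 | h3
    · exact h3
    · rw [h3] at hDA
      exact absurd hDA hA7
  subst hD1
  have hc6 : L.index ∣ 6 := by
    rw [hN] at hN42
    have h3 : L.index * m * 7 ∣ 6 * 7 := by
      have h4 : L.index * (1 * (7 * m)) = L.index * m * 7 := by ring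
      rw [h4] at hN42
      exact hN42
    exact (Dvd.intro _ rfl).trans (Nat.dvd_of_mul_dvd_mul_right (by norm_num) h3)
  have hpow' : ∀ r : ℕ, r.Prime → r ^ ((Nat.card A).factorization r) ≡ 1 [MOD 7] := by
    intro r hr
    obtain ⟨j, hj, hj'⟩ := hpow r hr
    rwa [Nat.dvd_one.1 hj] at hj'
  clear hN hN42 hC7 hDC hDA hpow hPm
  set a := Nat.card A with ha
  set s := Nat.card (L ⧸ A) with hsd
  set c := L.index with hc
  have ha0 : a ≠ 0 := (Nat.card_pos (α := A)).ne'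
  have hadvd : a ∣ Nat.card R := ⟨s * c, by rw [hcard]; ring⟩
  have hsdvd : s ∣ Nat.card R := ⟨a * c, by rw [hcard]; ring⟩
  have h5a : ¬ 5 ∣ a := by
    intro h3
    have h4 := hpow' 5 (by norm_num)
    have h5 : 1 ≤ a.factorization 5 := ((by norm_num : Nat.Prime 5).dvd_iff_one_le_factorization ha0).1 h3
    have h6 : ¬ 3 ≤ a.factorization 5 := fun h6 => hR125
      ((((by norm_num : Nat.Prime 5).pow_dvd_iff_le_factorization ha0).2 h6).trans hadvd)
    have h7 : a.factorization 5 = 1 ∨ a.factorization 5 = 2 := by omega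
    rcases h7 with h7 | h7 <;> rw [h7] at h4 <;> exact absurd h4 (by decide)
  have h5c : ¬ 5 ∣ c := fun h3 => by
    have := h3.trans hc6
    omega
  have h25s : 25 ∣ s := by
    rw [hcard] at hR25
    have h3 : Nat.Coprime 25 a := by
      rw [show (25 : ℕ) = 5 ^ 2 by norm_num]
      exact Nat.Coprime.pow_left _ ((Nat.Prime.coprime_iff_not_dvd (by norm_num)).2 h5a)
    have h4 : Nat.Coprime 25 c := by
      rw [show (25 : ℕ) = 5 ^ 2 by norm_num]
      exact Nat.Coprime.pow_left _ ((Nat.Prime.coprime_iff_not_dvd (by norm_num)).2 h5c)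
    exact h3.dvd_of_dvd_mul_left (h4.dvd_of_dvd_mul_right hR25)
  have hna : ¬ ∀ u v : L ⧸ A, u * v = v * u := by
    intro hab
    letI : CommGroup (L ⧸ A) := { (inferInstance : Group (L ⧸ A)) with mul_comm := hab }
    have h3 : s.Prime := IsSimpleGroup.prime_card (α := L ⧸ A)
    have h4 : 7 = s := (Nat.prime_dvd_prime_iff_eq h7p.out h3).1 h7
    (clear * - h25s h4; omega)
  have hsT : s ∣ Nat.card T8 := hsdvd.trans (Subgroup.card_subgroup_dvd_card R)
  have hstbl := hD.tbl (L ⧸ A) hs hna hsT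
  have hs4 : s ∣ 4838400 := hsdvd.trans (by rcases h2 with h2 | h2 <;> rw [h2] <;> norm_num)
  have hs6 : s = 604800 := by
    have h3 : ∀ s ∈ [60, 168, 360, 504, 2520, 6048, 20160, 25920, 181440, 604800, 1451520, 1814400, 174182400],
        25 ∣ s → s ∣ 4838400 → s = 604800 := by decide +kernel
    exact h3 _ hstbl h25s hs4
  -- the two cases
  have hac : a * c = 1 ∨ a * c = 8 := by
    rcases h2 with h2 | h2
    · left
      rw [hcard, hs6] at h2
      linarith only [h2]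
    · right
      rw [hcard, hs6] at h2
      linarith only [h2]
  rcases hac with hac | hac
  · -- `R ≅ J₂`
    have ha1 : a = 1 := Nat.eq_one_of_mul_eq_one_right hac
    have hc1 : c = 1 := Nat.eq_one_of_mul_eq_one_left hac
    have hAb : A = ⊥ := Subgroup.eq_bot_of_card_eq _ ha1
    have hLt : L = ⊤ := Subgroup.index_eq_one.1 hc1
    obtain ⟨g, hg, hreal⟩ := OrdDiv.exists_real_filter OT (S := L ⧸ A) (hS _) hna
      (l := [(2, 12), (3, 5), (5, 2), (7, 1)]) (N := 174182400) (by decide +kernel) (by rw [← card_t8]; exact hsT)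
      (fun o => o == 604800) (by rw [← hsd, hs6]; rfl)
    have hj : ((OrdDiv.cands [(2, 12), (3, 5), (5, 2), (7, 1)] 174182400).filter
        fun g => OrdDiv.ordN g == 604800).all (fun g => match g with
          | .j2 => true
          | _ => false) = true := by decide +kernel
    rw [List.all_eq_true] at hj
    have hj' := hj g hg
    have hJ : Spor.IsoJ2 (L ⧸ A) := by
      cases g <;> first | exact hreal | exact absurd hj' Bool.false_ne_true
    obtain ⟨eJ⟩ := hJ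
    subst hAb
    exact not_j2 hder ⟨(((QuotientGroup.quotientBot).trans
      ((MulEquiv.subgroupCongr hLt).trans Subgroup.topEquiv)).symm).trans eJ⟩
  · -- the order `8`
    have hc8 : c ∣ 8 := ⟨a, by rw [← hac, mul_comm]⟩
    have hc2 : c ∣ 2 := by
      have := Nat.dvd_gcd hc6 hc8
      exact this
    have ha8 : a = 8 := by
      rcases (Nat.dvd_prime Nat.prime_two).1 hc2 with h3 | h3
      · rw [h3, mul_one] at hac; exact hac
      · exfalso
        rw [h3] at hac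
        have h4 : a = 2 ^ 2 := by (clear * - hac; omega)
        have h5 := hpow' 2 Nat.prime_two
        rw [h4, Nat.prime_two.factorization_pow, Finsupp.single_eq_same] at h5
        exact absurd h5 (by decide)
    refine Struct.no_ext A ha8 hs h7 (by rw [← hsd, hs6]; norm_num) ?_
    intro u v hu huv
    have hu' : orderOf ((u : R) : T8) = 7 := by rw [Subgroup.orderOf_coe, Subgroup.orderOf_coe, hu]
    have h3 := (hent (zpowers ((u : R) : T8)) (by rw [Nat.card_zpowers, hu'])).1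
    have h4 : ((v : R) : T8) ∈ centralizer ((zpowers ((u : R) : T8) : Subgroup T8) : Set T8) := by
      rw [zpowers_eq_closure, centralizer_closure, mem_centralizer_singleton_iff]
      exact congrArg (fun z : L => ((z : R) : T8)) huv
    have h5 := Subgroup.orderOf_dvd_natCard _ h4
    have h6 := h5.trans h3
    rw [Subgroup.orderOf_coe, Subgroup.orderOf_coe] at h6
    simpa using h6

end Cfsg.Agent.H503.El.O8
end

-- part: H503/El/O8Fin
section
/-!
# TEAM ELUSIVE: `Ω⁺₈(2)` over any field with two elements (helper503)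

`ClMaxA` is false for `Ω⁺₈(2)`: the subgroups `Sp₆(2)` contain representatives of all `Aut`-classes of elements of
prime order (triality).
-/

set_option autoImplicit false

namespace Cfsg.Agent.H503.El

open Subgroup Cfsg.Agent.H278.El Cfsg.Agent.H396 Cfsg.Agent

/-- `Ω⁺₈` over isomorphic fields -/
noncomputable def pomCongr {F : Type} [Field F] [Fintype F] (hF : Fintype.card F = 2) :
    O8.T8 ≃* POmega F (quadFormPlus 4 F) :=
  let φ : ZMod 2 ≃+* F := ZMod.ringEquivOfPrime F Nat.prime_two hF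
  let E : isometryGroup (ZMod 2) O8.Q8 ≃* isometryGroup F (quadFormPlus 4 F) :=
    ClassicalGeometry.IsoTransfer.isometryGroupCongr φ O8.Q8 (quadFormPlus 4 F) (fun v => by
      show φ (quadFormPlus 4 (ZMod 2) v) = _
      unfold quadFormPlus
      rw [map_sum]
      simp only [map_mul, Function.comp_apply])
  let E' : Omega (ZMod 2) O8.Q8 ≃* Omega F (quadFormPlus 4 F) :=
    (E.subgroupMap (commutator _)).trans (MulEquiv.subgroupCongr (by
      rw [commutator_def, Subgroup.map_commutator]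
      show _ = _root_.commutator (isometryGroup F (quadFormPlus 4 F))
      rw [commutator_def]
      congr 1 <;> exact Subgroup.map_top_of_surjective _ E.surjective))
  LieClassical.FieldTransfer.centralQuotientCongr E'

/-- **`Ω⁺₈(2)`: every proper subgroup misses a `T`-class of elements of prime order.** -/
theorem derTAll_o8p (OT : OrdDiv.OrderTable.{0})
    (hS : ∀ (X : Type) [Group X] [Finite X] [IsSimpleGroup X], Cfsg.IsKnownSimple' X)
    (F : Type) [Field F] [Fintype F] (hF : Fintype.card F = 2)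
    (R : Subgroup (POmega F (quadFormPlus 4 F))) (hR : R ≠ ⊤) : DerT _ R := by
  refine DerT.congr (pomCongr hF) (O8.derTAll_t8 OT hS _ fun h => hR ?_)
  rw [eq_top_iff]
  intro x _
  have h1 : (pomCongr hF).symm x ∈ R.comap (pomCongr hF).toMonoidHom := by rw [h]; trivial
  rw [Subgroup.mem_comap] at h1
  simpa using h1

/-- **`Ω⁺₈(2)`: every maximal subgroup misses a `T`-class of elements of prime order.** -/
theorem clMax_o8p (OT : OrdDiv.OrderTable.{0})
    (hS : ∀ (X : Type) [Group X] [Finite X] [IsSimpleGroup X], Cfsg.IsKnownSimple' X)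
    (F : Type) [Field F] [Fintype F] (hF : Fintype.card F = 2) : ClMax (POmega F (quadFormPlus 4 F)) :=
  fun M hM => derTAll_o8p OT hS F hF M hM.1

end Cfsg.Agent.H503.El
end

private theorem dce_4bd445b96e75 : _root_.True := by
  try have : _root_.True := by simp only [_root_.Cfsg.Agent.H503.El.pomCongr.congr_simp]
  exact _root_.True.intro
end

-- part: H503/El/L44
section
set_option linter.all false
open scoped Cfsg.Agent.FastGrp

-- part: H503/El/Lin
section
/-!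
# TEAM ELUSIVE: `L₃(4)`, `L₇(2)` (helper503)
-/

set_option autoImplicit false

namespace Cfsg.Agent.H503.El

open Subgroup Cfsg.Agent.H970.StabNum Cfsg.Agent.H278.El Cfsg.Agent.H396 Cfsg.Agent

theorem card_psl {F : Type} [Field F] [Fintype F] {q : ℕ} (hF : Fintype.card F = q) {d N : ℕ} (hd : 2 ≤ d)
    (h : ∏ i : Fin d, (q ^ d - q ^ (i : ℕ)) = Nat.gcd d (q - 1) * ((q - 1) * N)) (hq : q - 1 ≠ 0) :
    Nat.card (Matrix.ProjectiveSpecialLinearGroup (Fin d) F) = N := by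
  have h2 := S0243.result (F := F) hF d hd
  rw [h] at h2
  have h3 := Nat.eq_of_mul_eq_mul_left (Nat.gcd_pos_of_pos_left _ (by omega)) h2
  exact Nat.eq_of_mul_eq_mul_left (Nat.pos_of_ne_zero hq) h3

theorem card_psl34 {F : Type} [Field F] [Fintype F] (hF : Fintype.card F = 4) :
    Nat.card (Matrix.ProjectiveSpecialLinearGroup (Fin 3) F) = 20160 :=
  card_psl hF (by norm_num) (by simp [Fin.prod_univ_succ]) (by norm_num)

theorem card_psl72 {F : Type} [Field F] [Fintype F] (hF : Fintype.card F = 2) :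
    Nat.card (Matrix.ProjectiveSpecialLinearGroup (Fin 7) F) = 163849992929280 :=
  card_psl hF (by norm_num) (by simp [Fin.prod_univ_succ]) (by norm_num)

set_option maxRecDepth 100000 in
/-- **`L₇(2)`: every proper subgroup misses a class of elements of prime order.** -/
theorem derAll_psl72 (OT : OrdDiv.OrderTable.{0})
    (hS : ∀ (X : Type) [Group X] [Finite X] [IsSimpleGroup X], Cfsg.IsKnownSimple' X)
    (F : Type) [Field F] [Fintype F] (hF : Fintype.card F = 2)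
    (R : Subgroup (Matrix.ProjectiveSpecialLinearGroup (Fin 7) F)) (hR : R ≠ ⊤) : Der _ R := by
  haveI : IsSimpleGroup (Matrix.ProjectiveSpecialLinearGroup (Fin 7) F) := S0249.result 7 (by norm_num)
  exact der_of_ex OT hS (p := 127) (M := 7) (l := [(2, 21), (3, 4), (5, 1), (7, 2), (31, 1), (127, 1)])
    (ps := [2, 3, 5, 7, 31, 127])
    (tbl := [60, 168, 360, 504, 2520, 6048, 14880, 20160, 25920, 181440, 1024128, 1451520, 9999360, 20158709760,
      163849992929280]) (card_psl72 hF) (by norm_num) (by norm_num) (by norm_num)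
    (by decide +kernel) (by decide +kernel) (by decide +kernel) (by decide +kernel)
    (H809.SelfCent.psl_irred hF (by norm_num) (by norm_num) (by norm_num) (by norm_num) (by norm_num) (by norm_num)
      (by norm_num)) R hR

theorem clMaxA_psl72 (OT : OrdDiv.OrderTable.{0})
    (hS : ∀ (X : Type) [Group X] [Finite X] [IsSimpleGroup X], Cfsg.IsKnownSimple' X)
    (F : Type) [Field F] [Fintype F] (hF : Fintype.card F = 2) :
    ClMaxA (Matrix.ProjectiveSpecialLinearGroup (Fin 7) F) := fun M hM => derAll_psl72 OT hS F hF M hM.1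

end Cfsg.Agent.H503.El
end

-- part: H503/El/L44
section
/-!
# TEAM ELUSIVE: `L₄(4)` (helper503)
-/

set_option autoImplicit false

namespace Cfsg.Agent.H503.El

open Subgroup Cfsg.Agent.H970.StabNum Cfsg.Agent.H278.El Cfsg.Agent.H396 Cfsg.Agent
open Cfsg.Agent.H809.SelfCent

/-- the centraliser of `diag(x, 1)`, `x` irreducible: divisibility -/
theorem card_cent_blk_dvd {F : Type} [Field F] [Fintype F] {d r q : ℕ} (hF : Fintype.card F = q) (hn : d.Prime)
    (hr : r.Prime) (h1 : r ∣ q ^ d - 1) (h2 : ¬ r ∣ q - 1) (h3 : ¬ r ∣ q)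
    (x : Matrix.SpecialLinearGroup (Fin d) F) (hx : orderOf x = r) :
    Nat.card (centralizer ({blk d F x} : Set (Matrix.SpecialLinearGroup (Fin (d + 1)) F))) ∣ q ^ d - 1 := by
  classical
  have hinj : Function.Injective (Matrix.SpecialLinearGroup.toGL : Matrix.SpecialLinearGroup (Fin d) F →* _) := by
    intro a b h
    apply Subtype.ext
    exact congrArg (Units.val) h
  have hx' : orderOf (Matrix.SpecialLinearGroup.toGL x : GL (Fin d) F) = r := by
    rw [orderOf_injective _ hinj, hx]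
  rw [← card_cent_GL hF hn hr h1 h2 h3 (Matrix.SpecialLinearGroup.toGL x) hx']
  have hirr := (irr hF hn hr h1 h2 h3 _ hx').1
  have hx1 : x ≠ 1 := by
    rintro rfl
    rw [orderOf_one] at hx
    exact hr.one_lt.ne hx
  have key : ∀ y : centralizer ({blk d F x} : Set (Matrix.SpecialLinearGroup (Fin (d + 1)) F)),
      ∃ (A : GL (Fin d) F) (e : F), A ∈ centralizer ({Matrix.SpecialLinearGroup.toGL x} : Set (GL (Fin d) F)) ∧
      (y : Matrix (Fin (d + 1)) (Fin (d + 1)) F) =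
        Matrix.reindexAlgEquiv F F finSumFinEquiv (Matrix.fromBlocks (A : Matrix (Fin d) (Fin d) F) 0 0
          (Matrix.scalar (Fin 1) e)) ∧ (A : Matrix (Fin d) (Fin d) F).det * e = 1 := by
    intro y
    exact cent_blk hirr hx1 (mem_centralizer_iff.1 y.2 _ rfl)
  choose A e hA hy hd using key
  have hmul : ∀ y z, A (y * z) = A y * A z := by
    intro y z
    have h4 : Matrix.reindexAlgEquiv F F finSumFinEquiv (Matrix.fromBlocks (A (y * z) : Matrix (Fin d) (Fin d) F) 0 0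
        (Matrix.scalar (Fin 1) (e (y * z)))) =
        Matrix.reindexAlgEquiv F F finSumFinEquiv (Matrix.fromBlocks ((A y : Matrix (Fin d) (Fin d) F) * (A z : Matrix (Fin d) (Fin d) F)) 0 0
        (Matrix.scalar (Fin 1) (e y) * Matrix.scalar (Fin 1) (e z))) := by
      rw [← hy (y * z)]
      have h5 : ((y * z : centralizer ({blk d F x} : Set (Matrix.SpecialLinearGroup (Fin (d + 1)) F))) :
        Matrix (Fin (d + 1)) (Fin (d + 1)) F) = (y : Matrix (Fin (d + 1)) (Fin (d + 1)) F) * z := rfl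
      rw [h5, hy y, hy z, ← map_mul, Matrix.fromBlocks_multiply]
      simp
    have h5 := (Matrix.reindexAlgEquiv F F (finSumFinEquiv (m := d) (n := 1))).injective h4
    exact Units.ext (Matrix.fromBlocks_inj.1 h5).1
  let f : centralizer ({blk d F x} : Set (Matrix.SpecialLinearGroup (Fin (d + 1)) F)) →*
      centralizer ({Matrix.SpecialLinearGroup.toGL x} : Set (GL (Fin d) F)) :=
    MonoidHom.mk' (fun y => ⟨A y, hA y⟩) fun y z => Subtype.ext (hmul y z)
  apply Subgroup.card_dvd_of_injective f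
  intro y z hyz
  have h4 : A y = A z := congrArg Subtype.val hyz
  have h5 : e y = e z := by
    have h6 := hd y
    rw [h4, ← hd z] at h6
    refine mul_left_cancel₀ ?_ h6
    intro h7
    have h8 := hd z
    rw [h7, zero_mul] at h8
    exact zero_ne_one h8
  apply Subtype.ext
  apply Subtype.ext
  rw [hy y, hy z, h4, h5]

theorem card_psl44 {F : Type} [Field F] [Fintype F] (hF : Fintype.card F = 4) :
    Nat.card (Matrix.ProjectiveSpecialLinearGroup (Fin 4) F) = 987033600 :=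
  card_psl hF (by norm_num) (by simp [Fin.prod_univ_succ]) (by norm_num)

/-- the projection when the center is trivial -/
noncomputable def pslEquiv {F : Type} [Field F] [Fintype F] {n : ℕ}
    (h : Nat.card (center (Matrix.SpecialLinearGroup (Fin n) F)) = 1) :
    Matrix.SpecialLinearGroup (Fin n) F ≃* Matrix.ProjectiveSpecialLinearGroup (Fin n) F :=
  MulEquiv.ofBijective (QuotientGroup.mk' (center (Matrix.SpecialLinearGroup (Fin n) F)))
    ⟨by rw [← MonoidHom.ker_eq_bot_iff, QuotientGroup.ker_mk', ← Subgroup.card_eq_one, h],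
      QuotientGroup.mk'_surjective _⟩

/-- centralisers of the subgroups of order `7` of `L₄(4)` -/
theorem cent_psl44 {F : Type} [Field F] [Fintype F] (hF : Fintype.card F = 4)
    (P : Subgroup (Matrix.ProjectiveSpecialLinearGroup (Fin 4) F)) (hP : Nat.card P = 7) :
    Nat.card (centralizer (P : Set (Matrix.ProjectiveSpecialLinearGroup (Fin 4) F))) ∣ 7 * 9 := by
  have hrp : Fact (Nat.Prime 7) := ⟨by norm_num⟩
  obtain ⟨x, hx⟩ := exists_prime_orderOf_dvd_card' (G := Matrix.SpecialLinearGroup (Fin 3) F) 7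
    (dvd_card_SL (n := 3) hF (by norm_num) (by norm_num) (by norm_num) (by norm_num))
  have hZ : Nat.card (center (Matrix.SpecialLinearGroup (Fin 4) F)) = 1 := by
    rw [card_center_SL 4 (by norm_num), hF]; rfl
  refine cent_dvd_of_one (y := pslEquiv hZ (blk 3 F x)) (by norm_num)
    (by rw [card_psl44 hF]; norm_num) ?_ ?_ P hP
  · rw [MulEquiv.orderOf_eq, orderOf_injective _ blk_injective, hx]
  · rw [card_centralizer_equiv]
    exact card_cent_blk_dvd (d := 3) hF (by norm_num) (by norm_num) (by norm_num) (by norm_num) (by norm_num) x hx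

set_option maxRecDepth 100000 in
/-- **`L₄(4)`: every proper subgroup misses a class of elements of prime order.** -/
theorem derAll_psl44 (OT : OrdDiv.OrderTable.{0})
    (hS : ∀ (X : Type) [Group X] [Finite X] [IsSimpleGroup X], Cfsg.IsKnownSimple' X)
    (F : Type) [Field F] [Fintype F] (hF : Fintype.card F = 4)
    (R : Subgroup (Matrix.ProjectiveSpecialLinearGroup (Fin 4) F)) (hR : R ≠ ⊤) : Der _ R := by
  haveI : IsSimpleGroup (Matrix.ProjectiveSpecialLinearGroup (Fin 4) F) := S0249.result 4 (by norm_num)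
  have hD : Data (Matrix.ProjectiveSpecialLinearGroup (Fin 4) F) [(7, 9, 54)] [2, 3, 5, 7, 17]
      [60, 168, 360, 504, 2448, 2520, 4080, 6048, 20160, 25920, 181440, 604800, 979200, 1451520, 1814400, 197406720,
        987033600] := by
    refine mk_data OT hS (l := [(2, 12), (3, 4), (5, 2), (7, 1), (17, 1)]) (card_psl44 hF) (by decide +kernel) ?_
    intro x hx
    rw [List.mem_singleton] at hx
    subst hx
    exact entry_of_sub (by norm_num) (card_psl44 hF) (by norm_num) (by norm_num) (by norm_num) (by decide +kernel)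
      (cent_psl44 hF)
  rcases mem_sub (l := [(2, 12), (3, 4), (5, 2), (7, 1), (17, 1)]) (card_psl44 hF) (by decide +kernel)
    (by decide +kernel) hD R hR with h | h
  · exact h
  · exfalso
    have h1 : sub 987033600 [(2, 12), (3, 4), (5, 2), (7, 1), (17, 1)] [(7, 9, 54)] [2, 3, 5, 7, 17]
        [60, 168, 360, 504, 2448, 2520, 4080, 6048, 20160, 25920, 181440, 604800, 979200, 1451520, 1814400, 197406720,
          987033600] = [197406720] := by decide +kernel
    rw [h1, List.mem_singleton] at h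
    have h2 := R.card_mul_index
    rw [h, card_psl44 hF] at h2
    have h3 : R.index = 5 := by omega
    have h4 := card_dvd_factorial R hR
    rw [h3, card_psl44 hF] at h4
    exact absurd h4 (by decide)

theorem clMaxA_psl44 (OT : OrdDiv.OrderTable.{0})
    (hS : ∀ (X : Type) [Group X] [Finite X] [IsSimpleGroup X], Cfsg.IsKnownSimple' X)
    (F : Type) [Field F] [Fintype F] (hF : Fintype.card F = 4) :
    ClMaxA (Matrix.ProjectiveSpecialLinearGroup (Fin 4) F) := fun M hM => derAll_psl44 OT hS F hF M hM.1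

end Cfsg.Agent.H503.El
end
end

-- part: H503/El/L62
section
prune_inst 0x40040000100000008008010000000401200040200000000e1c008060981060285800000b830061408c020854039400811000040020000000a0008004118008000000000902c0000000000001000000000000000000000000000000000000000000000000
set_option linter.all false
open scoped Cfsg.Agent.FastGrp

/-- Laplace expansion which skips zero entries -/
private noncomputable def detL_4736c {R : Type*} [CommRing R] [DecidableEq R] (n : ℕ) : Matrix (Fin n) (Fin n) R → R :=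
  @Nat.rec (fun n => Matrix (Fin n) (Fin n) R → R) (fun _ => 1) (fun n ih M =>
    ∑ j : Fin (n + 1), if M 0 j = 0 then 0 else (-1) ^ (j : ℕ) * M 0 j * ih (M.submatrix Fin.succ j.succAbove)) n

private theorem detL_eq_4736c {R : Type*} [CommRing R] [DecidableEq R] {n : ℕ} (M : Matrix (Fin n) (Fin n) R) :
    M.det = detL_4736c n M := by
  induction n with
  | zero => exact Matrix.det_fin_zero
  | succ n ih =>
    rw [Matrix.det_succ_row_zero]
    refine Finset.sum_congr rfl fun j _ => ?_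
    by_cases h : M 0 j = 0
    · rw [if_pos h, h, mul_zero, zero_mul]
    · rw [if_neg h, ih]
      rfl


-- part: H503/El/Nine
section
/-!
# TEAM ELUSIVE: `L₆(2)`, elements of order `9` (helper503)
-/

set_option autoImplicit false

namespace Cfsg.Agent.H503.El.Fix

open Subgroup

/-- the cube of an element of order `9` acting faithfully on a group of order `64` has no fixed points -/
theorem fpf9 {S V : Type*} [Group S] [CommGroup V] [Finite V] [MulDistribMulAction S V]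
    (hV : Nat.card V = 64) {y : S} (hy : orderOf y = 9) (hf : ¬ ∀ v : V, y ^ 3 • v = v) (v : V)
    (hv : y ^ 3 • v = v) : v = 1 := by
  classical
  let C : Subgroup V :=
    { carrier := {v | y ^ 3 • v = v}
      one_mem' := smul_one _
      mul_mem' := by
        intro v w hv hw
        show y ^ 3 • (v * w) = v * w
        rw [smul_mul', show y ^ 3 • v = v from hv, show y ^ 3 • w = w from hw]
      inv_mem' := by
        intro v hv
        show y ^ 3 • v⁻¹ = v⁻¹
        rw [smul_inv', show y ^ 3 • v = v from hv] }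
  have hinv : ∀ (g : zpowers y) (v : V), v ∈ C → g.1 • v ∈ C := by
    rintro ⟨g, hg⟩ v hv
    obtain ⟨k, rfl⟩ := Subgroup.mem_zpowers_iff.1 hg
    show y ^ 3 • (y ^ k • v) = y ^ k • v
    rw [← mul_smul, (((Commute.refl y).pow_left 3).zpow_right k).eq, mul_smul, show y ^ 3 • v = v from hv]
  let M : SubMulAction (zpowers y) V :=
    { carrier := {v | v ∉ C}
      smul_mem' := by
        intro g v hv h
        apply hv
        have h1 := hinv g⁻¹ _ h
        have h2 : (g⁻¹).1 • (g • v) = v := by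
          show g⁻¹ • (g • v) = v
          rw [inv_smul_smul]
        rwa [h2] at h1 }
  have hfree : ∀ b : M, MulAction.stabilizer (zpowers y) b = ⊥ := by
    rintro ⟨b, hb⟩
    rw [eq_bot_iff]
    rintro ⟨g, hg⟩ h
    have h1 : g • b = b := congrArg Subtype.val (MulAction.mem_stabilizer_iff.1 h)
    rw [Subgroup.mem_bot]
    by_contra hne
    have hg1 : g ≠ 1 := fun h => hne (Subtype.ext h)
    apply hb
    -- `y ^ 3` is a power of `g`
    have hfo : IsOfFinOrder y := orderOf_pos_iff.1 (by rw [hy]; norm_num)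
    obtain ⟨k, rfl⟩ := Submonoid.mem_powers_iff _ _ |>.1 (hfo.mem_powers_iff_mem_zpowers.2 hg)
    have hk : ¬ 9 ∣ k := by
      intro h
      rw [← hy] at h
      exact hg1 (orderOf_dvd_iff_pow_eq_one.1 h)
    obtain ⟨m, hm⟩ : ∃ m : ℕ, k * m % 9 = 3 := by
      have h2 : k % 9 ≠ 0 := fun h => hk (Nat.dvd_of_mod_eq_zero h)
      have h3 : k % 9 < 9 := Nat.mod_lt _ (by norm_num)
      have key : ∀ r < 9, r ≠ 0 → ∃ m < 9, r * m % 9 = 3 := by decide
      obtain ⟨m, -, hm⟩ := key _ h3 h2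
      exact ⟨m, Eq.trans ((Nat.mod_modEq k 9).symm.mul_right m) hm⟩
    have h4 : y ^ 3 = (y ^ k) ^ m := by
      rw [← pow_mul, ← pow_mod_orderOf y (k * m), hy, hm]
    show y ^ 3 • b = b
    rw [h4]
    have h5 : y ^ k ∈ MulAction.stabilizer S b := h1
    exact pow_mem h5 m
  have e := MulAction.selfEquivOrbitsQuotientProd hfree
  have h1 := Nat.card_congr e
  rw [Nat.card_prod, Nat.card_zpowers, hy] at h1
  have h2 : Nat.card M + Nat.card C = 64 := by
    have h3 : Nat.card M = (C : Set V)ᶜ.ncard := by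
      rw [← Nat.card_coe_set_eq]; rfl
    have h4 : Nat.card C = (C : Set V).ncard := by rw [← Nat.card_coe_set_eq]; rfl
    rw [h3, h4, Set.ncard_compl_add_ncard, hV]
  obtain ⟨j, hj, hCj⟩ := (Nat.dvd_prime_pow Nat.prime_two (m := 6)).1
    (show Nat.card C ∣ 2 ^ 6 by
      have := Subgroup.card_subgroup_dvd_card C
      rwa [hV] at this)
  have hj' : j = 0 ∨ j = 6 := by
    rw [h1, hCj] at h2
    interval_cases j <;> simp_all <;> omega
  rcases hj' with rfl | rfl
  · have h3 : C = ⊥ := Subgroup.eq_bot_of_card_eq C (by rw [hCj, pow_zero])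
    have h4 : v ∈ C := hv
    rw [h3] at h4
    exact Subgroup.mem_bot.1 h4
  · exfalso
    have h3 : C = ⊤ := Subgroup.eq_top_of_card_eq C (by rw [hCj, hV]; norm_num)
    apply hf
    intro w
    have h4 : w ∈ C := by rw [h3]; trivial
    exact h4

/-- the companion matrix of `X⁶ + X³ + 1` -/
def comp9 : Matrix (Fin 6) (Fin 6) (ZMod 2) :=
  !![0,0,0,0,0,1; 1,0,0,0,0,0; 0,1,0,0,0,0; 0,0,1,0,0,1; 0,0,0,1,0,0; 0,0,0,0,1,0]

set_option maxRecDepth 100000 in
theorem comp9_pow : comp9 ^ 9 = 1 ∧ comp9 ^ 3 ≠ 1 := by decide +kernel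

set_option maxRecDepth 100000 in
theorem comp9_det : comp9.det = 1 := by (simp only [detL_eq_4736c]; decide +kernel)

end Cfsg.Agent.H503.El.Fix
end

-- part: H503/El/L62
section
/-!
# TEAM ELUSIVE: `L₆(2)` (helper503)
-/

set_option autoImplicit false

namespace Cfsg.Agent.H503.El

open Subgroup Cfsg.Agent.H970.StabNum Cfsg.Agent.H278.El Cfsg.Agent.H396 Cfsg.Agent

theorem card_psl62 {F : Type} [Field F] [Fintype F] (hF : Fintype.card F = 2) :
    Nat.card (Matrix.ProjectiveSpecialLinearGroup (Fin 6) F) = 20158709760 :=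
  card_psl hF (by norm_num) (by simp [Fin.prod_univ_succ]) (by norm_num)

section Act

variable {F : Type} [Field F] {n : ℕ}

/-- the action on vectors, written multiplicatively -/
@[reducible] def vecAct (n : ℕ) (F : Type) [Field F] :
    MulDistribMulAction (Matrix.SpecialLinearGroup (Fin n) F) (Multiplicative (Fin n → F)) where
  smul g v := Multiplicative.ofAdd ((g : Matrix (Fin n) (Fin n) F).mulVec (Multiplicative.toAdd v))
  one_smul v := by
    show Multiplicative.ofAdd (((1 : Matrix.SpecialLinearGroup (Fin n) F) : Matrix (Fin n) (Fin n) F).mulVec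
      (Multiplicative.toAdd v)) = v
    rw [Matrix.SpecialLinearGroup.coe_one, Matrix.one_mulVec, ofAdd_toAdd]
  mul_smul g h v := by
    show Multiplicative.ofAdd (((g * h : Matrix.SpecialLinearGroup (Fin n) F) : Matrix (Fin n) (Fin n) F).mulVec
      (Multiplicative.toAdd v)) = Multiplicative.ofAdd ((g : Matrix (Fin n) (Fin n) F).mulVec
        ((h : Matrix (Fin n) (Fin n) F).mulVec (Multiplicative.toAdd v)))
    rw [Matrix.SpecialLinearGroup.coe_mul, Matrix.mulVec_mulVec]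
  smul_one g := by
    show Multiplicative.ofAdd ((g : Matrix (Fin n) (Fin n) F).mulVec 0) = 1
    rw [Matrix.mulVec_zero, ofAdd_zero]
  smul_mul g v w := by
    show Multiplicative.ofAdd ((g : Matrix (Fin n) (Fin n) F).mulVec (Multiplicative.toAdd v + Multiplicative.toAdd w)) =
      Multiplicative.ofAdd ((g : Matrix (Fin n) (Fin n) F).mulVec (Multiplicative.toAdd v)) *
      Multiplicative.ofAdd ((g : Matrix (Fin n) (Fin n) F).mulVec (Multiplicative.toAdd w))
    rw [Matrix.mulVec_add, ofAdd_add]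

attribute [local instance] vecAct

/-- an element fixing the basis vectors is trivial -/
theorem vec_basis (g : Matrix.SpecialLinearGroup (Fin n) F)
    (h : ∀ i : Fin n, g • Multiplicative.ofAdd (Pi.single i (1 : F) : Fin n → F) =
      Multiplicative.ofAdd (Pi.single i (1 : F) : Fin n → F)) : g = 1 := by
  apply Subtype.ext
  rw [Matrix.SpecialLinearGroup.coe_one]
  ext i j
  have h1 : (g : Matrix (Fin n) (Fin n) F).mulVec (Pi.single j 1) = Pi.single j 1 := h j
  rw [Matrix.mulVec_single_one] at h1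
  have h2 := congrFun h1 i
  rw [Matrix.col_apply] at h2
  rw [h2, Matrix.one_apply, Pi.single_apply]

end Act

attribute [local instance] vecAct

/-- an element of order `9` of `SL₆(2)` -/
theorem exists_nine {F : Type} [Field F] [Fintype F] (hF : Fintype.card F = 2) :
    ∃ y : Matrix.SpecialLinearGroup (Fin 6) F, orderOf y = 9 := by
  haveI : CharP F 2 := by
    obtain ⟨p, hp⟩ := CharP.exists F
    have hpp : Fact p.Prime := ⟨CharP.char_is_prime F p⟩
    obtain ⟨n, -, hn⟩ := FiniteField.card F p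
    rw [hF] at hn
    have h1 : p ∣ 2 := by rw [hn]; exact dvd_pow_self p n.2.ne'
    rwa [(Nat.prime_dvd_prime_iff_eq hpp.out Nat.prime_two).1 h1] at hp
  let f : ZMod 2 →+* F := ZMod.castHom (dvd_refl 2) F
  have hinj : Function.Injective (Matrix.SpecialLinearGroup.map (n := Fin 6) f) := by
    intro a b hab
    apply Subtype.ext
    have h1 : f.mapMatrix (a : Matrix (Fin 6) (Fin 6) (ZMod 2)) = f.mapMatrix (b : Matrix (Fin 6) (Fin 6) (ZMod 2)) :=
      congrArg Subtype.val hab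
    exact (Matrix.map_injective f.injective) h1
  let y : Matrix.SpecialLinearGroup (Fin 6) (ZMod 2) := ⟨Fix.comp9, Fix.comp9_det⟩
  refine ⟨Matrix.SpecialLinearGroup.map f y, ?_⟩
  rw [orderOf_injective _ hinj]
  haveI : Fact (Nat.Prime 3) := ⟨by norm_num⟩
  have h1 : ¬ y ^ 3 ^ 1 = 1 := by
    intro h
    have h2 : (y : Matrix (Fin 6) (Fin 6) (ZMod 2)) ^ 3 = 1 := by
      have := congrArg Subtype.val h
      rwa [Matrix.SpecialLinearGroup.coe_pow, pow_one, Matrix.SpecialLinearGroup.coe_one] at this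
    exact Fix.comp9_pow.2 h2
  have h2 : y ^ 3 ^ (1 + 1) = 1 := by
    apply Subtype.ext
    rw [Matrix.SpecialLinearGroup.coe_pow, Matrix.SpecialLinearGroup.coe_one]
    exact Fix.comp9_pow.1
  exact orderOf_eq_prime_pow h1 h2

set_option maxRecDepth 100000 in
/-- **`L₆(2)`: every proper subgroup misses a class of elements of prime order.** -/
theorem derAll_psl62 (OT : OrdDiv.OrderTable.{0})
    (hS : ∀ (X : Type) [Group X] [Finite X] [IsSimpleGroup X], Cfsg.IsKnownSimple' X)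
    (F : Type) [Field F] [Fintype F] (hF : Fintype.card F = 2)
    (R : Subgroup (Matrix.ProjectiveSpecialLinearGroup (Fin 6) F)) (hR : R ≠ ⊤) : Der _ R := by
  classical
  haveI : IsSimpleGroup (Matrix.ProjectiveSpecialLinearGroup (Fin 6) F) := S0249.result 6 (by norm_num)
  have hne : (20158709760 : ℕ) ≠ 31 := by norm_num
  have hent : ∀ P : Subgroup (Matrix.ProjectiveSpecialLinearGroup (Fin 6) F), Nat.card P = 31 →
      Nat.card (centralizer (P : Set (Matrix.ProjectiveSpecialLinearGroup (Fin 6) F))) ∣ 31 * 1 ∧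
      Nat.card (normalizer (P : Set (Matrix.ProjectiveSpecialLinearGroup (Fin 6) F))) ∣ 31 * 5 :=
    entry_of_ex (by norm_num) (card_psl62 hF) (by norm_num) (by norm_num) (by decide +kernel)
      (H809.SelfCent.psl_selfcent 6 2 31 (by simp) F hF)
  have hD : Data (Matrix.ProjectiveSpecialLinearGroup (Fin 6) F) [(31, 1, 5)] [2, 3, 5, 7, 31]
      [60, 168, 360, 504, 2520, 6048, 14880, 20160, 25920, 181440, 1451520, 9999360, 20158709760] := by
    refine mk_data OT hS (l := [(2, 15), (3, 4), (5, 1), (7, 2), (31, 1)]) (card_psl62 hF) (by decide +kernel) ?_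
    intro x hx
    rw [List.mem_singleton] at hx
    subst hx
    exact hent
  by_contra hder
  rcases mem_sub (l := [(2, 15), (3, 4), (5, 1), (7, 2), (31, 1)]) (card_psl62 hF) (by decide +kernel)
    (by decide +kernel) hD R hR with h | h
  · exact hder h
  have h1 : (sub 20158709760 [(2, 15), (3, 4), (5, 1), (7, 2), (31, 1)] [(31, 1, 5)] [2, 3, 5, 7, 31]
      [60, 168, 360, 504, 2520, 6048, 14880, 20160, 25920, 181440, 1451520, 9999360, 20158709760]).all
        (fun h => h == 63 * (2 ^ 10 * 155) || h == 63 * (2 ^ 15 * 155)) = true := by decide +kernel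
  rw [List.all_eq_true] at h1
  have h2 := h1 _ h
  rw [Bool.or_eq_true, beq_iff_eq, beq_iff_eq] at h2
  obtain ⟨a, ha7, ha15, hRa⟩ : ∃ a, 7 ≤ a ∧ a ≤ 15 ∧ Nat.card R = 63 * (2 ^ a * 155) := by
    rcases h2 with h2 | h2
    · exact ⟨10, by norm_num, by norm_num, h2⟩
    · exact ⟨15, by norm_num, by norm_num, h2⟩
  -- transfer to `SL`
  have hZ : Nat.card (center (Matrix.SpecialLinearGroup (Fin 6) F)) = 1 := by
    rw [H809.SelfCent.card_center_SL 6 (by norm_num), hF]; rfl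
  let e := pslEquiv hZ
  set R' : Subgroup (Matrix.SpecialLinearGroup (Fin 6) F) := R.comap e.toMonoidHom with hR'
  have hcR' : Nat.card R' = Nat.card R :=
    Nat.card_congr ((Equiv.subtypeEquiv e.toEquiv fun x => Iff.rfl))
  haveI : Fact (Nat.Prime 31) := ⟨by norm_num⟩
  obtain ⟨⟨x, hxR⟩, hx⟩ := exists_prime_orderOf_dvd_card' (G := R') 31
    (by rw [hcR', hRa]; exact Dvd.dvd.mul_left (Dvd.dvd.mul_left (by norm_num) _) _)
  rw [Subgroup.orderOf_mk] at hx
  obtain ⟨y0, hy0⟩ := exists_nine hF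
  -- an automorphic image of `y0 ^ 3`
  obtain ⟨φ, hφ⟩ : ∃ φ : Matrix.ProjectiveSpecialLinearGroup (Fin 6) F ≃* Matrix.ProjectiveSpecialLinearGroup (Fin 6) F,
      φ (e (y0 ^ 3)) ∈ R := by
    by_contra hcon
    push Not at hcon
    refine hder ⟨e (y0 ^ 3), ?_, hcon⟩
    rw [MulEquiv.orderOf_eq, orderOf_pow' _ (by norm_num), hy0]
    norm_num
  set y := e.symm (φ (e y0)) with hy
  have hoy : orderOf y = 9 := by
    rw [hy, MulEquiv.orderOf_eq, MulEquiv.orderOf_eq, MulEquiv.orderOf_eq, hy0]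
  have hy3 : y ^ 3 = e.symm (φ (e (y0 ^ 3))) := by rw [hy, ← map_pow, ← map_pow, ← map_pow]
  have hyR : y ^ 3 ∈ R' := by
    rw [hy3, hR', Subgroup.mem_comap]
    show e (e.symm _) ∈ R
    rw [e.apply_symm_apply]
    exact hφ
  have hoy3 : orderOf (y ^ 3) = 3 := by
    rw [orderOf_pow' _ (by norm_num), hoy]; norm_num
  have hV : Nat.card (Multiplicative (Fin 6 → F)) = 64 := by
    have h3 : Nat.card (Multiplicative (Fin 6 → F)) = Nat.card (Fin 6 → F) := rfl
    rw [h3, Nat.card_eq_fintype_card, Fintype.card_fun, hF, Fintype.card_fin]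
    norm_num
  have h2F : (2 : F) = 0 := by
    have h3 : ((Fintype.card F : ℕ) : F) = 0 := Nat.cast_card_eq_zero F
    rw [hF] at h3
    exact_mod_cast h3
  refine Fix.core (V := Multiplicative (Fin 6 → F)) hV ⟨_, vec_basis⟩ ?_ R' hxR hx hyR hoy3
    (fun v hv => Fix.fpf9 hV hoy ?_ v hv) ?_ ha7 (hcR'.trans hRa) ?_
  · intro v
    show Multiplicative.ofAdd (Multiplicative.toAdd v + Multiplicative.toAdd v) = 1
    rw [← two_smul F, h2F, zero_smul, ofAdd_zero]
  · intro hall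
    have h3 : y ^ 3 = 1 := vec_basis _ fun i => hall _
    rw [h3, orderOf_one] at hoy3
    omega
  · intro P hP
    have hPe : Nat.card (P.map e.toMonoidHom) = 31 := by
      rw [← hP]
      exact (Nat.card_congr (P.equivMapOfInjective _ e.injective).toEquiv).symm
    obtain ⟨h3, h4⟩ := hent _ hPe
    exact ⟨(Fix.card_cent_map e.injective P).trans h3, (Fix.card_norm_map e.injective P).trans h4⟩
  · intro K _ _ hK hK' hd
    have h15 : 2 ^ a * 155 ∣ 2 ^ 15 * 155 := Nat.mul_dvd_mul_right (pow_dvd_pow 2 ha15) _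
    have hd' := hd.trans h15
    have h3 : Nat.card K ∣ Nat.card (Matrix.ProjectiveSpecialLinearGroup (Fin 6) F) := by
      rw [card_psl62 hF]
      exact hd'.trans (by norm_num)
    have h4 := hD.tbl K hK hK' h3
    have h5 : ∀ s ∈ [60, 168, 360, 504, 2520, 6048, 14880, 20160, 25920, 181440, 1451520, 9999360, 20158709760],
        ¬ s ∣ 2 ^ 15 * 155 := by decide +kernel
    exact h5 _ h4 hd'

theorem clMaxA_psl62 (OT : OrdDiv.OrderTable.{0})
    (hS : ∀ (X : Type) [Group X] [Finite X] [IsSimpleGroup X], Cfsg.IsKnownSimple' X)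
    (F : Type) [Field F] [Fintype F] (hF : Fintype.card F = 2) :
    ClMaxA (Matrix.ProjectiveSpecialLinearGroup (Fin 6) F) := fun M hM => derAll_psl62 OT hS F hF M hM.1

end Cfsg.Agent.H503.El
end
end

-- part: H503/El/Om
section
set_option linter.all false
open scoped Cfsg.Agent.FastGrp

/-!
# TEAM ELUSIVE: `Ω⁻₈(2)`, `Ω⁺₁₀(2)` (helper503)
-/

set_option autoImplicit false

namespace Cfsg.Agent.H503.El

open Subgroup Cfsg.Agent.H970.StabNum Cfsg.Agent.H278.El Cfsg.Agent.H396 Cfsg.Agent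

theorem card_o8m {F : Type} [Field F] [Fintype F] (hF : Fintype.card F = 2) (a b : F)
    (hab : ∀ z₁ z₂ : F, z₁ ^ 2 + a * z₁ * z₂ + b * z₂ ^ 2 = 0 → z₁ = 0 ∧ z₂ = 0) :
    Nat.card (POmega F (quadFormMinus 3 F a b)) = 197406720 := by
  have hord := Cfsg.Agent.S0294.result (F := F) hF 4 (by norm_num) a b hab
  rw [show Nat.gcd 4 (2 ^ 4 + 1) = 1 by norm_num] at hord
  simp only [Nat.reduceSub, Finset.prod_range_succ, Finset.prod_range_zero] at hord
  norm_num at hord ⊢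
  omega

theorem card_o10p {F : Type} [Field F] [Fintype F] (hF : Fintype.card F = 2) :
    Nat.card (POmega F (quadFormPlus 5 F)) = 23499295948800 := by
  have hord := Cfsg.Agent.S0293.result (F := F) hF 5 (by norm_num)
  rw [show Nat.gcd 4 (2 ^ 5 - 1) = 1 by norm_num] at hord
  simp only [Nat.reduceSub, Finset.prod_range_succ, Finset.prod_range_zero] at hord
  norm_num at hord ⊢
  omega

private noncomputable def _root_.Cfsg.Agent.LsF.f7835d3_0 : {f // @Cfsg.Agent.OrdDiv.isPrimeB = f} := ⟨_, by first | (delta Cfsg.Agent.OrdDiv.isPrimeB; rewrite [Cfsg.Agent.LsF.nmod_pat, Cfsg.Agent.LsF.nbne_pat, Cfsg.Agent.LsF.and_eq, Cfsg.Agent.LsF.or_eq, Cfsg.Agent.LsF.all_eq, Cfsg.Agent.LsF.range_eq]; exact rfl) | exact rfl⟩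
private noncomputable def _root_.Cfsg.Agent.LsF.f7835d3_1 : {f // @Cfsg.Agent.OrdDiv.prodl = f} := ⟨_, by first | (delta Cfsg.Agent.OrdDiv.prodl; rewrite [Cfsg.Agent.LsF.npow_pat, Cfsg.Agent.LsF.map_eq, Cfsg.Agent.LsF.prod_eq]; exact rfl) | exact rfl⟩
private noncomputable def _root_.Cfsg.Agent.LsF.f7835d3_2 : {f // @Cfsg.Agent.OrdDiv.valid = f} := ⟨_, by first | (delta Cfsg.Agent.OrdDiv.valid; rewrite [Cfsg.Agent.LsF.f7835d3_0.2, Cfsg.Agent.LsF.f7835d3_1.2, Cfsg.Agent.LsF.nadd_pat, Cfsg.Agent.LsF.nmod_pat, Cfsg.Agent.LsF.npow_pat, Cfsg.Agent.LsF.nbeq_pat, Cfsg.Agent.LsF.nbne_pat, Cfsg.Agent.LsF.and_eq, Cfsg.Agent.LsF.all_eq]; exact rfl) | exact rfl⟩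
private noncomputable def _root_.Cfsg.Agent.LsF.f7835d3_3 : {f // @Cfsg.Agent.H503.El.okData = f} := ⟨_, by first | (delta Cfsg.Agent.H503.El.okData; rewrite [Cfsg.Agent.LsF.nmul_pat, Cfsg.Agent.LsF.nmod_pat, Cfsg.Agent.LsF.npow_pat, Cfsg.Agent.LsF.nbne_pat, Cfsg.Agent.LsF.and_eq, Cfsg.Agent.LsF.all_eq]; exact rfl) | exact rfl⟩
private noncomputable def _root_.Cfsg.Agent.LsF.f7835d3_4 : {f // @Nat.factorial = f} := ⟨_, by first | (delta Nat.factorial Nat.brecOn.go Nat.brecOn Nat.factorial._f; rewrite [Cfsg.Agent.LsF.nmul_pat]; (try delta Nat.factorial.match_1); (try delta Nat.casesOn); first | dsimp -zeta only | exact rfl) | exact rfl⟩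
private noncomputable def _root_.Cfsg.Agent.LsF.f7835d3_5 : {f // @Cfsg.Agent.OrdDiv.candAlt = f} := ⟨_, by first | (delta Cfsg.Agent.OrdDiv.candAlt; rewrite [Cfsg.Agent.LsF.f7835d3_4.2, Cfsg.Agent.LsF.nadd_pat, Cfsg.Agent.LsF.nmul_pat, Cfsg.Agent.LsF.nmod_pat, Cfsg.Agent.LsF.nbeq_pat, Cfsg.Agent.LsF.and_eq, Cfsg.Agent.LsF.flatMap_eq, Cfsg.Agent.LsF.filter_eq, Cfsg.Agent.LsF.range_eq, Cfsg.Agent.LsF.dBoolEq_eq, Cfsg.Agent.LsF.ite_eq]; exact rfl) | exact rfl⟩
private noncomputable def _root_.Cfsg.Agent.LsF.f7835d3_7 : {f // @Cfsg.Agent.OrdDiv.cand = f} := ⟨_, by first | (delta Cfsg.Agent.OrdDiv.cand; rewrite [Cfsg.Agent.LsF.nmul_pat, Cfsg.Agent.LsF.nmod_pat, Cfsg.Agent.LsF.nbeq_pat, Cfsg.Agent.LsF.and_eq, Cfsg.Agent.LsF.filter_eq]; exact rfl) | exact rfl⟩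
private noncomputable def _root_.Cfsg.Agent.LsF.f7835d3_8 : {f // @Cfsg.Agent.OrdDiv.glN = f} := ⟨_, by first | (delta Cfsg.Agent.OrdDiv.glN; rewrite [Cfsg.Agent.LsF.nsub_pat, Cfsg.Agent.LsF.npow_pat, Cfsg.Agent.LsF.map_eq, Cfsg.Agent.LsF.range_eq, Cfsg.Agent.LsF.prod_eq]; exact rfl) | exact rfl⟩
private noncomputable def _root_.Cfsg.Agent.LsF.f7835d3_9 : {f // @Cfsg.Agent.OrdDiv.fPSL = f} := ⟨_, by first | (delta Cfsg.Agent.OrdDiv.fPSL; rewrite [Cfsg.Agent.LsF.f7835d3_8.2, Cfsg.Agent.LsF.nmul_pat, Cfsg.Agent.LsF.nsub_pat, Cfsg.Agent.LsF.ndiv_pat, Cfsg.Agent.LsF.and_eq, Cfsg.Agent.LsF.not_eq]; exact rfl) | exact rfl⟩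
private noncomputable def _root_.Cfsg.Agent.LsF.f7835d3_10 : {f // @Cfsg.Agent.OrdDiv.prB = f} := ⟨_, by first | (delta Cfsg.Agent.OrdDiv.prB; rewrite [Cfsg.Agent.LsF.nadd_pat, Cfsg.Agent.LsF.nmul_pat, Cfsg.Agent.LsF.nsub_pat, Cfsg.Agent.LsF.npow_pat, Cfsg.Agent.LsF.map_eq, Cfsg.Agent.LsF.range_eq, Cfsg.Agent.LsF.prod_eq]; exact rfl) | exact rfl⟩
private noncomputable def _root_.Cfsg.Agent.LsF.f7835d3_11 : {f // @Cfsg.Agent.OrdDiv.fPSp = f} := ⟨_, by first | (delta Cfsg.Agent.OrdDiv.fPSp; rewrite [Cfsg.Agent.LsF.f7835d3_10.2, Cfsg.Agent.LsF.nmul_pat, Cfsg.Agent.LsF.nsub_pat, Cfsg.Agent.LsF.npow_pat, Cfsg.Agent.LsF.and_eq, Cfsg.Agent.LsF.not_eq]; exact rfl) | exact rfl⟩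
private noncomputable def _root_.Cfsg.Agent.LsF.f7835d3_12 : {f // @Cfsg.Agent.OrdDiv.prU = f} := ⟨_, by first | (delta Cfsg.Agent.OrdDiv.prU; rewrite [Cfsg.Agent.LsF.nadd_pat, Cfsg.Agent.LsF.nsub_pat, Cfsg.Agent.LsF.nmod_pat, Cfsg.Agent.LsF.npow_pat, Cfsg.Agent.LsF.map_eq, Cfsg.Agent.LsF.range_eq, Cfsg.Agent.LsF.prod_eq, Cfsg.Agent.LsF.dBoolEq_eq, Cfsg.Agent.LsF.ite_eq]; exact rfl) | exact rfl⟩
private noncomputable def _root_.Cfsg.Agent.LsF.f7835d3_13 : {f // @Cfsg.Agent.OrdDiv.fPSU = f} := ⟨_, by first | (delta Cfsg.Agent.OrdDiv.fPSU; rewrite [Cfsg.Agent.LsF.f7835d3_12.2, Cfsg.Agent.LsF.nadd_pat, Cfsg.Agent.LsF.nmul_pat, Cfsg.Agent.LsF.nsub_pat, Cfsg.Agent.LsF.ndiv_pat, Cfsg.Agent.LsF.npow_pat, Cfsg.Agent.LsF.and_eq, Cfsg.Agent.LsF.not_eq]; exact rfl) | exact rfl⟩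
private noncomputable def _root_.Cfsg.Agent.LsF.f7835d3_14 : {f // @Cfsg.Agent.OrdDiv.fOOdd = f} := ⟨_, by first | (delta Cfsg.Agent.OrdDiv.fOOdd; rewrite [Cfsg.Agent.LsF.f7835d3_10.2, Cfsg.Agent.LsF.nmul_pat, Cfsg.Agent.LsF.nmod_pat, Cfsg.Agent.LsF.npow_pat]; exact rfl) | exact rfl⟩
private noncomputable def _root_.Cfsg.Agent.LsF.f7835d3_15 : {f // @Cfsg.Agent.OrdDiv.fOPlus = f} := ⟨_, by first | (delta Cfsg.Agent.OrdDiv.fOPlus; rewrite [Cfsg.Agent.LsF.f7835d3_10.2, Cfsg.Agent.LsF.nmul_pat, Cfsg.Agent.LsF.nsub_pat, Cfsg.Agent.LsF.npow_pat]; exact rfl) | exact rfl⟩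
private noncomputable def _root_.Cfsg.Agent.LsF.f7835d3_16 : {f // @Cfsg.Agent.OrdDiv.fOMinus = f} := ⟨_, by first | (delta Cfsg.Agent.OrdDiv.fOMinus; rewrite [Cfsg.Agent.LsF.f7835d3_10.2, Cfsg.Agent.LsF.nadd_pat, Cfsg.Agent.LsF.nmul_pat, Cfsg.Agent.LsF.nsub_pat, Cfsg.Agent.LsF.npow_pat]; exact rfl) | exact rfl⟩
private noncomputable def _root_.Cfsg.Agent.LsF.f7835d3_17 : {f // @Cfsg.Agent.OrdDiv.one = f} := ⟨_, by first | (delta Cfsg.Agent.OrdDiv.one; rewrite [Cfsg.Agent.LsF.nadd_pat, Cfsg.Agent.LsF.nmul_pat, Cfsg.Agent.LsF.npow_pat]; exact rfl) | exact rfl⟩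
private noncomputable def _root_.Cfsg.Agent.LsF.f7835d3_18 : {f // @Cfsg.Agent.OrdDiv.fG2 = f} := ⟨_, by first | (delta Cfsg.Agent.OrdDiv.fG2; rewrite [Cfsg.Agent.LsF.f7835d3_17.2, Cfsg.Agent.LsF.nmul_pat, Cfsg.Agent.LsF.nsub_pat, Cfsg.Agent.LsF.npow_pat]; exact rfl) | exact rfl⟩
private noncomputable def _root_.Cfsg.Agent.LsF.f7835d3_19 : {f // @Cfsg.Agent.OrdDiv.fF4 = f} := ⟨_, by first | (delta Cfsg.Agent.OrdDiv.fF4; rewrite [Cfsg.Agent.LsF.f7835d3_17.2, Cfsg.Agent.LsF.nmul_pat, Cfsg.Agent.LsF.nsub_pat, Cfsg.Agent.LsF.npow_pat]; exact rfl) | exact rfl⟩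
private noncomputable def _root_.Cfsg.Agent.LsF.f7835d3_20 : {f // @Cfsg.Agent.OrdDiv.fE6 = f} := ⟨_, by first | (delta Cfsg.Agent.OrdDiv.fE6; rewrite [Cfsg.Agent.LsF.f7835d3_17.2, Cfsg.Agent.LsF.nmul_pat, Cfsg.Agent.LsF.nsub_pat, Cfsg.Agent.LsF.npow_pat]; exact rfl) | exact rfl⟩
private noncomputable def _root_.Cfsg.Agent.LsF.f7835d3_21 : {f // @Cfsg.Agent.OrdDiv.fE7 = f} := ⟨_, by first | (delta Cfsg.Agent.OrdDiv.fE7; rewrite [Cfsg.Agent.LsF.f7835d3_17.2, Cfsg.Agent.LsF.nmul_pat, Cfsg.Agent.LsF.nsub_pat, Cfsg.Agent.LsF.npow_pat]; exact rfl) | exact rfl⟩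
private noncomputable def _root_.Cfsg.Agent.LsF.f7835d3_22 : {f // @Cfsg.Agent.OrdDiv.fE8 = f} := ⟨_, by first | (delta Cfsg.Agent.OrdDiv.fE8; rewrite [Cfsg.Agent.LsF.f7835d3_17.2, Cfsg.Agent.LsF.nmul_pat, Cfsg.Agent.LsF.nsub_pat, Cfsg.Agent.LsF.npow_pat]; exact rfl) | exact rfl⟩
private noncomputable def _root_.Cfsg.Agent.LsF.f7835d3_23 : {f // @Cfsg.Agent.OrdDiv.fTE6 = f} := ⟨_, by first | (delta Cfsg.Agent.OrdDiv.fTE6; rewrite [Cfsg.Agent.LsF.f7835d3_17.2, Cfsg.Agent.LsF.nadd_pat, Cfsg.Agent.LsF.nmul_pat, Cfsg.Agent.LsF.nsub_pat, Cfsg.Agent.LsF.npow_pat]; exact rfl) | exact rfl⟩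
private noncomputable def _root_.Cfsg.Agent.LsF.f7835d3_24 : {f // @Cfsg.Agent.OrdDiv.fTD4 = f} := ⟨_, by first | (delta Cfsg.Agent.OrdDiv.fTD4; rewrite [Cfsg.Agent.LsF.f7835d3_17.2, Cfsg.Agent.LsF.nadd_pat, Cfsg.Agent.LsF.nmul_pat, Cfsg.Agent.LsF.nsub_pat, Cfsg.Agent.LsF.npow_pat]; exact rfl) | exact rfl⟩
private noncomputable def _root_.Cfsg.Agent.LsF.f7835d3_25 : {f // @Cfsg.Agent.OrdDiv.fSz = f} := ⟨_, by first | (delta Cfsg.Agent.OrdDiv.fSz; rewrite [Cfsg.Agent.LsF.f7835d3_17.2, Cfsg.Agent.LsF.nadd_pat, Cfsg.Agent.LsF.nmul_pat, Cfsg.Agent.LsF.nsub_pat, Cfsg.Agent.LsF.nmod_pat, Cfsg.Agent.LsF.npow_pat, Cfsg.Agent.LsF.and_eq]; exact rfl) | exact rfl⟩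
private noncomputable def _root_.Cfsg.Agent.LsF.f7835d3_26 : {f // @Cfsg.Agent.OrdDiv.fRee = f} := ⟨_, by first | (delta Cfsg.Agent.OrdDiv.fRee; rewrite [Cfsg.Agent.LsF.f7835d3_17.2, Cfsg.Agent.LsF.nadd_pat, Cfsg.Agent.LsF.nmul_pat, Cfsg.Agent.LsF.nsub_pat, Cfsg.Agent.LsF.nmod_pat, Cfsg.Agent.LsF.npow_pat, Cfsg.Agent.LsF.and_eq]; exact rfl) | exact rfl⟩
private noncomputable def _root_.Cfsg.Agent.LsF.f7835d3_27 : {f // @Cfsg.Agent.OrdDiv.fTF4 = f} := ⟨_, by first | (delta Cfsg.Agent.OrdDiv.fTF4; rewrite [Cfsg.Agent.LsF.f7835d3_17.2, Cfsg.Agent.LsF.nadd_pat, Cfsg.Agent.LsF.nmul_pat, Cfsg.Agent.LsF.nsub_pat, Cfsg.Agent.LsF.nmod_pat, Cfsg.Agent.LsF.npow_pat, Cfsg.Agent.LsF.and_eq]; exact rfl) | exact rfl⟩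
private noncomputable def _root_.Cfsg.Agent.LsF.f7835d3_28 : {f // @Cfsg.Agent.OrdDiv.cands = f} := ⟨_, by first | (delta Cfsg.Agent.OrdDiv.cands; rewrite [Cfsg.Agent.LsF.f7835d3_5.2, Cfsg.Agent.LsF.f7835d3_7.2, Cfsg.Agent.LsF.f7835d3_9.2, Cfsg.Agent.LsF.f7835d3_11.2, Cfsg.Agent.LsF.f7835d3_13.2, Cfsg.Agent.LsF.f7835d3_14.2, Cfsg.Agent.LsF.f7835d3_15.2, Cfsg.Agent.LsF.f7835d3_16.2, Cfsg.Agent.LsF.f7835d3_18.2, Cfsg.Agent.LsF.f7835d3_19.2, Cfsg.Agent.LsF.f7835d3_20.2, Cfsg.Agent.LsF.f7835d3_21.2, Cfsg.Agent.LsF.f7835d3_22.2, Cfsg.Agent.LsF.f7835d3_23.2, Cfsg.Agent.LsF.f7835d3_24.2, Cfsg.Agent.LsF.f7835d3_25.2, Cfsg.Agent.LsF.f7835d3_26.2, Cfsg.Agent.LsF.f7835d3_27.2, Cfsg.Agent.LsF.nmod_pat, Cfsg.Agent.LsF.nbeq_pat, Cfsg.Agent.LsF.map_eq, Cfsg.Agent.LsF.flatten_eq, Cfsg.Agent.LsF.filter_eq]; exact rfl) | exact rfl⟩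
private noncomputable def _root_.Cfsg.Agent.LsF.f7835d3_29 : {f // @Cfsg.Agent.OrdDiv.instDecidableEqGrp.decEq = f} := ⟨_, by first | (delta Cfsg.Agent.OrdDiv.instDecidableEqGrp.decEq; rewrite [Cfsg.Agent.LsF.instDecEq_eq, Cfsg.Agent.LsF.dite_eq]; (try delta Cfsg.Agent.OrdDiv.instDecidableEqGrp.decEq.match_1); (try delta Decidable.casesOn); exact rfl) | exact rfl⟩
private noncomputable def _root_.Cfsg.Agent.LsF.f7835d3_30 : {f // @Cfsg.Agent.OrdDiv.instDecidableEqGrp = f} := ⟨_, by first | (delta Cfsg.Agent.OrdDiv.instDecidableEqGrp; rewrite [Cfsg.Agent.LsF.f7835d3_29.2]; exact rfl) | exact rfl⟩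
private noncomputable def _root_.Cfsg.Agent.LsF.f7835d3_31 : {f // @Cfsg.Agent.OrdDiv.ordN = f} := ⟨_, by first | (delta Cfsg.Agent.OrdDiv.ordN Option.map; rewrite [Cfsg.Agent.LsF.f7835d3_4.2, Cfsg.Agent.LsF.f7835d3_9.2, Cfsg.Agent.LsF.f7835d3_11.2, Cfsg.Agent.LsF.f7835d3_13.2, Cfsg.Agent.LsF.f7835d3_14.2, Cfsg.Agent.LsF.f7835d3_15.2, Cfsg.Agent.LsF.f7835d3_16.2, Cfsg.Agent.LsF.f7835d3_18.2, Cfsg.Agent.LsF.f7835d3_19.2, Cfsg.Agent.LsF.f7835d3_20.2, Cfsg.Agent.LsF.f7835d3_21.2, Cfsg.Agent.LsF.f7835d3_22.2, Cfsg.Agent.LsF.f7835d3_23.2, Cfsg.Agent.LsF.f7835d3_24.2, Cfsg.Agent.LsF.f7835d3_25.2, Cfsg.Agent.LsF.f7835d3_26.2, Cfsg.Agent.LsF.f7835d3_27.2, Cfsg.Agent.LsF.f7835d3_30.2, Cfsg.Agent.LsF.ndiv_pat, Cfsg.Agent.LsF.find?_eq, Cfsg.Agent.LsF.ogetD_eq, Cfsg.Agent.LsF.decide_eq]; (try delta Cfsg.Agent.OrdDiv.ordN.match_1); (try delta Cfsg.Agent.OrdDiv.ordN._sparseCasesOn_1); (try delta Option.getD.match_1); (try delta Option.casesOn);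 exact rfl) | exact rfl⟩
private noncomputable def _root_.Cfsg.Agent.LsF.f7835d3_32 : {f // @Cfsg.Agent.H503.El.allOk = f} := ⟨_, by first | (delta Cfsg.Agent.H503.El.allOk; rewrite [Cfsg.Agent.LsF.f7835d3_2.2, Cfsg.Agent.LsF.f7835d3_3.2, Cfsg.Agent.LsF.f7835d3_0.2, Cfsg.Agent.LsF.f7835d3_28.2, Cfsg.Agent.LsF.f7835d3_31.2, Cfsg.Agent.LsF.instNBEq_pat, Cfsg.Agent.LsF.and_eq, Cfsg.Agent.LsF.all_eq, Cfsg.Agent.LsF.contains_eq]; exact rfl) | exact rfl⟩
private noncomputable def _root_.Cfsg.Agent.LsF.f7835d3_38 : {f // @Cfsg.Agent.H970.StabNum.divs = f} := ⟨_, by first | (delta Cfsg.Agent.H970.StabNum.divs List.brecOn List.brecOn.go Cfsg.Agent.H970.StabNum.divs._f; rewrite [Cfsg.Agent.LsF.nadd_pat, Cfsg.Agent.LsF.nmul_pat, Cfsg.Agent.LsF.npow_pat, Cfsg.Agent.LsF.map_eq, Cfsg.Agent.LsF.flatMap_eq, Cfsg.Agent.LsF.range_eq]; (try delta Cfsg.Agent.H970.StabNum.divs.match_1); (try delta List.casesOn); first | dsimp -zeta only | exact rfl) |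 exact rfl⟩
private noncomputable def _root_.Cfsg.Agent.LsF.f7835d3_39 : {f // @Cfsg.Agent.H503.El.sub = f} := ⟨_, by first | (delta Cfsg.Agent.H503.El.sub; rewrite [Cfsg.Agent.LsF.f7835d3_38.2, Cfsg.Agent.LsF.nmod_pat, Cfsg.Agent.LsF.nbeq_pat, Cfsg.Agent.LsF.and_eq, Cfsg.Agent.LsF.all_eq, Cfsg.Agent.LsF.filter_eq]; exact rfl) | exact rfl⟩
set_option maxRecDepth 100000 in
/-- **`Ω⁻₈(2)`: every proper subgroup misses a class of elements of prime order.** -/
theorem derAll_o8m (OT : OrdDiv.OrderTable.{0})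
    (hS : ∀ (X : Type) [Group X] [Finite X] [IsSimpleGroup X], Cfsg.IsKnownSimple' X)
    (F : Type) [Field F] [Fintype F] (hF : Fintype.card F = 2) (a b : F)
    (hab : ∀ z₁ z₂ : F, z₁ ^ 2 + a * z₁ * z₂ + b * z₂ ^ 2 = 0 → z₁ = 0 ∧ z₂ = 0)
    (R : Subgroup (POmega F (quadFormMinus 3 F a b))) (hR : R ≠ ⊤) : Der _ R := by
  haveI : IsSimpleGroup (POmega F (quadFormMinus 3 F a b)) := S0297.result 4 le_rfl a b hab
  haveI : Finite (POmega F (quadFormMinus 3 F a b)) :=
    Nat.finite_of_card_ne_zero (by rw [card_o8m hF a b hab]; norm_num)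
  exact der_of_ex OT hS (p := 17) (M := 4) (l := [(2, 12), (3, 4), (5, 1), (7, 1), (17, 1)]) (ps := [2, 3, 5, 7, 17])
    (tbl := [60, 168, 360, 504, 2448, 2520, 4080, 6048, 20160, 25920, 181440, 1451520, 197406720])
    (card_o8m hF a b hab) (by norm_num) (by norm_num) (by norm_num)
    (by decide +kernel) (by ((try (rewrite [Cfsg.Agent.LsF.f7835d3_32.2])); decide +kernel)) (by decide +kernel) (by ((try (rewrite [Cfsg.Agent.LsF.f7835d3_39.2, Cfsg.Agent.LsF.isEmpty_eq])); decide +kernel))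
    (H732.SelfCent.omega8minus_selfcent hF a b hab) R hR

set_option maxRecDepth 100000 in
/-- **`Ω⁺₁₀(2)`: every proper subgroup misses a class of elements of prime order.** -/
theorem derAll_o10p (OT : OrdDiv.OrderTable.{0})
    (hS : ∀ (X : Type) [Group X] [Finite X] [IsSimpleGroup X], Cfsg.IsKnownSimple' X)
    (F : Type) [Field F] [Fintype F] (hF : Fintype.card F = 2)
    (R : Subgroup (POmega F (quadFormPlus 5 F))) (hR : R ≠ ⊤) : Der _ R := by
  haveI : IsSimpleGroup (POmega F (quadFormPlus 5 F)) := S0296.result 5 (by norm_num)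
  haveI : Finite (POmega F (quadFormPlus 5 F)) :=
    Nat.finite_of_card_ne_zero (by rw [card_o10p hF]; norm_num)
  exact der_of_ex OT hS (p := 31) (M := 5) (l := [(2, 20), (3, 5), (5, 2), (7, 1), (17, 1), (31, 1)])
    (ps := [2, 3, 5, 7, 17, 31])
    (tbl := [60, 168, 360, 504, 2448, 2520, 4080, 6048, 14880, 20160, 25920, 181440, 604800, 979200, 1451520, 1814400,
      9999360, 174182400, 197406720, 987033600, 47377612800, 23499295948800])
    (card_o10p hF) (by norm_num) (by norm_num) (by norm_num)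
    (by decide +kernel) (by ((try (rewrite [Cfsg.Agent.LsF.f7835d3_32.2])); decide +kernel)) (by decide +kernel) (by ((try (rewrite [Cfsg.Agent.LsF.f7835d3_39.2, Cfsg.Agent.LsF.isEmpty_eq])); decide +kernel))
    (H732.SelfCent.omega10plus_selfcent hF) R hR

theorem clMaxA_o8m (OT : OrdDiv.OrderTable.{0})
    (hS : ∀ (X : Type) [Group X] [Finite X] [IsSimpleGroup X], Cfsg.IsKnownSimple' X)
    (F : Type) [Field F] [Fintype F] (hF : Fintype.card F = 2) (a b : F)
    (hab : ∀ z₁ z₂ : F, z₁ ^ 2 + a * z₁ * z₂ + b * z₂ ^ 2 = 0 → z₁ = 0 ∧ z₂ = 0) :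
    ClMaxA (POmega F (quadFormMinus 3 F a b)) := fun M hM => derAll_o8m OT hS F hF a b hab M hM.1

theorem clMaxA_o10p (OT : OrdDiv.OrderTable.{0})
    (hS : ∀ (X : Type) [Group X] [Finite X] [IsSimpleGroup X], Cfsg.IsKnownSimple' X)
    (F : Type) [Field F] [Fintype F] (hF : Fintype.card F = 2) :
    ClMaxA (POmega F (quadFormPlus 5 F)) := fun M hM => derAll_o10p OT hS F hF M hM.1

end Cfsg.Agent.H503.El
end
end
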