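import Cfsg.Agent.H938.Sax.Base
import Cfsg.Agent.H503.El.O8Fin_m3
import Cfsg.Agent.H503.El.Fix2_m3
import Cfsg.Agent.Lib.ListFast
import Cfsg.Agent.H134.OmegaThree
import Cfsg.Agent.S0292
import Cfsg.Agent.S0295
import Cfsg.Agent.Prune
set_option linter.all false

-- part: H503/El/PG
section
set_option linter.all false
open scoped Cfsg.Agent.FastGrp

/-!
# The small groups: prime versions (for S2528, S2498, S3522) (helper503)

`pgap_*` : a proper subgroup misses a prime divisor of the order of the group, or its order is in an explicit list.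
-/

set_option autoImplicit false
set_option maxRecDepth 100000

namespace Cfsg.Agent.H503.El

open Subgroup Cfsg.Agent.H970.StabNum Cfsg.Agent.H278.El Cfsg.Agent.H396 Cfsg.Agent Cfsg.Agent.H938.Sax

theorem pgap_sub {T : Type} [Group T] [Finite T] {N : ℕ} {l : List (ℕ × ℕ)} {data : List (ℕ × ℕ × ℕ)}
    {ps tbl : List ℕ} (hN : Nat.card T = N) (hv : OrdDiv.valid l N = true)
    (hl : (l.all fun x => N % x.1 == 0) = true) (D : Data T data ps tbl) (R : Subgroup T) (hR : R ≠ ⊤) :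
    PGap T R ∨ Nat.card R ∈ sub N l data ps tbl := by
  subst hN
  by_cases h : ∀ x ∈ l, Nat.card R % x.1 = 0
  · right
    unfold sub
    rw [List.mem_filter]
    refine ⟨mem_divs_of_valid hv (Subgroup.card_subgroup_dvd_card R), bandI ?_ (bandI ?_ (D.feas R))⟩
    · rw [List.all_eq_true]
      intro x hx
      exact beqI (h x hx)
    · rw [Nat.blt_eq]
      refine lt_of_le_of_ne (Nat.le_of_dvd Nat.card_pos (Subgroup.card_subgroup_dvd_card R)) fun h1 => hR ?_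
      exact Subgroup.eq_top_of_card_eq R h1
  · left
    push Not at h
    obtain ⟨x, hx, h1⟩ := h
    rw [List.all_eq_true] at hl
    have h2 := hl x hx
    rw [beq_iff_eq] at h2
    exact ⟨x.1, OrdDiv.valid_prime hv x hx, Nat.dvd_of_mod_eq_zero h2, fun h3 => h1 (Nat.mod_eq_zero_of_dvd h3)⟩

/-- one self-centralizing subgroup of prime order -/
theorem pgap_of_ex {T : Type} [Group T] [Finite T] [IsSimpleGroup T] (OT : OrdDiv.OrderTable.{0})
    (hS : ∀ (X : Type) [Group X] [Finite X] [IsSimpleGroup X], Cfsg.IsKnownSimple' X)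
    {N p M : ℕ} {l : List (ℕ × ℕ)} {ps tbl : List ℕ} (hN : Nat.card T = N) (hp : p.Prime)
    (hp2 : ¬ p ^ 2 ∣ N) (hne : N ≠ p) (hM : okM N p 1 M = true)
    (hok : allOk N l [(p, 1, M)] ps tbl = true) (hl : (l.all fun x => N % x.1 == 0) = true)
    (h : ∃ R : Subgroup T, Nat.card R = p ∧ centralizer (R : Set T) = R)
    (R : Subgroup T) (hR : R ≠ ⊤) : PGap T R ∨ Nat.card R ∈ sub N l [(p, 1, M)] ps tbl := by
  have hv : OrdDiv.valid l N = true := by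
    unfold allOk at hok
    rw [Bool.and_eq_true] at hok
    exact hok.1
  refine pgap_sub hN hv hl (mk_data OT hS hN hok fun x hx => ?_) R hR
  rw [List.mem_singleton] at hx
  subst hx
  exact entry_of_ex hp hN hp2 hne hM h

theorem not_mem_of_isEmpty {l : List ℕ} (h : l.isEmpty = true) {x : ℕ} : x ∉ l := by
  rw [List.isEmpty_iff] at h
  rw [h]
  exact List.not_mem_nil

variable (OT : OrdDiv.OrderTable.{0})
  (hS : ∀ (X : Type) [Group X] [Finite X] [IsSimpleGroup X], Cfsg.IsKnownSimple' X)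

include OT hS

private noncomputable def _root_.Cfsg.Agent.LsF.fc546c2_0 : {f // @Cfsg.Agent.OrdDiv.isPrimeB = f} := ⟨_, by first | (delta Cfsg.Agent.OrdDiv.isPrimeB; rewrite [Cfsg.Agent.LsF.nmod_pat, Cfsg.Agent.LsF.nbne_pat, Cfsg.Agent.LsF.and_eq, Cfsg.Agent.LsF.or_eq, Cfsg.Agent.LsF.all_eq, Cfsg.Agent.LsF.range_eq]; exact rfl) | exact rfl⟩
private noncomputable def _root_.Cfsg.Agent.LsF.fc546c2_1 : {f // @Cfsg.Agent.OrdDiv.prodl = f} := ⟨_, by first | (delta Cfsg.Agent.OrdDiv.prodl; rewrite [Cfsg.Agent.LsF.npow_pat, Cfsg.Agent.LsF.map_eq, Cfsg.Agent.LsF.prod_eq]; exact rfl) | exact rfl⟩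
private noncomputable def _root_.Cfsg.Agent.LsF.fc546c2_2 : {f // @Cfsg.Agent.OrdDiv.valid = f} := ⟨_, by first | (delta Cfsg.Agent.OrdDiv.valid; rewrite [Cfsg.Agent.LsF.fc546c2_0.2, Cfsg.Agent.LsF.fc546c2_1.2, Cfsg.Agent.LsF.nadd_pat, Cfsg.Agent.LsF.nmod_pat, Cfsg.Agent.LsF.npow_pat, Cfsg.Agent.LsF.nbeq_pat, Cfsg.Agent.LsF.nbne_pat, Cfsg.Agent.LsF.and_eq, Cfsg.Agent.LsF.all_eq]; exact rfl) | exact rfl⟩
private noncomputable def _root_.Cfsg.Agent.LsF.fc546c2_3 : {f // @Cfsg.Agent.H503.El.okData = f} := ⟨_, by first | (delta Cfsg.Agent.H503.El.okData; rewrite [Cfsg.Agent.LsF.nmul_pat, Cfsg.Agent.LsF.nmod_pat, Cfsg.Agent.LsF.npow_pat, Cfsg.Agent.LsF.nbne_pat, Cfsg.Agent.LsF.and_eq, Cfsg.Agent.LsF.all_eq]; exact rfl) | exact rfl⟩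
private noncomputable def _root_.Cfsg.Agent.LsF.fc546c2_4 : {f // @Cfsg.Agent.OrdDiv.candAlt = f} := ⟨_, by first | (delta Cfsg.Agent.OrdDiv.candAlt; rewrite [Cfsg.Agent.LsF.nadd_pat, Cfsg.Agent.LsF.nmul_pat, Cfsg.Agent.LsF.nmod_pat, Cfsg.Agent.LsF.nbeq_pat, Cfsg.Agent.LsF.and_eq, Cfsg.Agent.LsF.flatMap_eq, Cfsg.Agent.LsF.filter_eq, Cfsg.Agent.LsF.range_eq, Cfsg.Agent.LsF.dBoolEq_eq, Cfsg.Agent.LsF.ite_eq]; exact rfl) | exact rfl⟩
private noncomputable def _root_.Cfsg.Agent.LsF.fc546c2_6 : {f // @Cfsg.Agent.OrdDiv.cand = f} := ⟨_, by first | (delta Cfsg.Agent.OrdDiv.cand; rewrite [Cfsg.Agent.LsF.nmul_pat, Cfsg.Agent.LsF.nmod_pat, Cfsg.Agent.LsF.nbeq_pat, Cfsg.Agent.LsF.and_eq, Cfsg.Agent.LsF.filter_eq]; exact rfl) | exact rfl⟩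
private noncomputable def _root_.Cfsg.Agent.LsF.fc546c2_7 : {f // @Cfsg.Agent.OrdDiv.glN = f} := ⟨_, by first | (delta Cfsg.Agent.OrdDiv.glN; rewrite [Cfsg.Agent.LsF.nsub_pat, Cfsg.Agent.LsF.npow_pat, Cfsg.Agent.LsF.map_eq, Cfsg.Agent.LsF.range_eq, Cfsg.Agent.LsF.prod_eq]; exact rfl) | exact rfl⟩
private noncomputable def _root_.Cfsg.Agent.LsF.fc546c2_8 : {f // @Cfsg.Agent.OrdDiv.fPSL = f} := ⟨_, by first | (delta Cfsg.Agent.OrdDiv.fPSL; rewrite [Cfsg.Agent.LsF.fc546c2_7.2, Cfsg.Agent.LsF.nmul_pat, Cfsg.Agent.LsF.nsub_pat, Cfsg.Agent.LsF.ndiv_pat, Cfsg.Agent.LsF.and_eq, Cfsg.Agent.LsF.not_eq]; exact rfl) | exact rfl⟩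
private noncomputable def _root_.Cfsg.Agent.LsF.fc546c2_9 : {f // @Cfsg.Agent.OrdDiv.prB = f} := ⟨_, by first | (delta Cfsg.Agent.OrdDiv.prB; rewrite [Cfsg.Agent.LsF.nadd_pat, Cfsg.Agent.LsF.nmul_pat, Cfsg.Agent.LsF.nsub_pat, Cfsg.Agent.LsF.npow_pat, Cfsg.Agent.LsF.map_eq, Cfsg.Agent.LsF.range_eq, Cfsg.Agent.LsF.prod_eq]; exact rfl) | exact rfl⟩
private noncomputable def _root_.Cfsg.Agent.LsF.fc546c2_10 : {f // @Cfsg.Agent.OrdDiv.fPSp = f} := ⟨_, by first | (delta Cfsg.Agent.OrdDiv.fPSp; rewrite [Cfsg.Agent.LsF.fc546c2_9.2, Cfsg.Agent.LsF.nmul_pat, Cfsg.Agent.LsF.nsub_pat, Cfsg.Agent.LsF.npow_pat, Cfsg.Agent.LsF.and_eq, Cfsg.Agent.LsF.not_eq]; exact rfl) | exact rfl⟩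
private noncomputable def _root_.Cfsg.Agent.LsF.fc546c2_11 : {f // @Cfsg.Agent.OrdDiv.prU = f} := ⟨_, by first | (delta Cfsg.Agent.OrdDiv.prU; rewrite [Cfsg.Agent.LsF.nadd_pat, Cfsg.Agent.LsF.nsub_pat, Cfsg.Agent.LsF.nmod_pat, Cfsg.Agent.LsF.npow_pat, Cfsg.Agent.LsF.map_eq, Cfsg.Agent.LsF.range_eq, Cfsg.Agent.LsF.prod_eq, Cfsg.Agent.LsF.dBoolEq_eq, Cfsg.Agent.LsF.ite_eq]; exact rfl) | exact rfl⟩
private noncomputable def _root_.Cfsg.Agent.LsF.fc546c2_12 : {f // @Cfsg.Agent.OrdDiv.fPSU = f} := ⟨_, by first | (delta Cfsg.Agent.OrdDiv.fPSU; rewrite [Cfsg.Agent.LsF.fc546c2_11.2, Cfsg.Agent.LsF.nadd_pat, Cfsg.Agent.LsF.nmul_pat, Cfsg.Agent.LsF.nsub_pat, Cfsg.Agent.LsF.ndiv_pat, Cfsg.Agent.LsF.npow_pat, Cfsg.Agent.LsF.and_eq, Cfsg.Agent.LsF.not_eq]; exact rfl) | exact rfl⟩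
private noncomputable def _root_.Cfsg.Agent.LsF.fc546c2_13 : {f // @Cfsg.Agent.OrdDiv.fOOdd = f} := ⟨_, by first | (delta Cfsg.Agent.OrdDiv.fOOdd; rewrite [Cfsg.Agent.LsF.fc546c2_9.2, Cfsg.Agent.LsF.nmul_pat, Cfsg.Agent.LsF.nmod_pat, Cfsg.Agent.LsF.npow_pat]; exact rfl) | exact rfl⟩
private noncomputable def _root_.Cfsg.Agent.LsF.fc546c2_14 : {f // @Cfsg.Agent.OrdDiv.fOPlus = f} := ⟨_, by first | (delta Cfsg.Agent.OrdDiv.fOPlus; rewrite [Cfsg.Agent.LsF.fc546c2_9.2, Cfsg.Agent.LsF.nmul_pat, Cfsg.Agent.LsF.nsub_pat, Cfsg.Agent.LsF.npow_pat]; exact rfl) | exact rfl⟩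
private noncomputable def _root_.Cfsg.Agent.LsF.fc546c2_15 : {f // @Cfsg.Agent.OrdDiv.fOMinus = f} := ⟨_, by first | (delta Cfsg.Agent.OrdDiv.fOMinus; rewrite [Cfsg.Agent.LsF.fc546c2_9.2, Cfsg.Agent.LsF.nadd_pat, Cfsg.Agent.LsF.nmul_pat, Cfsg.Agent.LsF.nsub_pat, Cfsg.Agent.LsF.npow_pat]; exact rfl) | exact rfl⟩
private noncomputable def _root_.Cfsg.Agent.LsF.fc546c2_16 : {f // @Cfsg.Agent.OrdDiv.one = f} := ⟨_, by first | (delta Cfsg.Agent.OrdDiv.one; rewrite [Cfsg.Agent.LsF.nadd_pat, Cfsg.Agent.LsF.nmul_pat, Cfsg.Agent.LsF.npow_pat]; exact rfl) | exact rfl⟩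
private noncomputable def _root_.Cfsg.Agent.LsF.fc546c2_17 : {f // @Cfsg.Agent.OrdDiv.fG2 = f} := ⟨_, by first | (delta Cfsg.Agent.OrdDiv.fG2; rewrite [Cfsg.Agent.LsF.fc546c2_16.2, Cfsg.Agent.LsF.nmul_pat, Cfsg.Agent.LsF.nsub_pat, Cfsg.Agent.LsF.npow_pat]; exact rfl) | exact rfl⟩
private noncomputable def _root_.Cfsg.Agent.LsF.fc546c2_18 : {f // @Cfsg.Agent.OrdDiv.fF4 = f} := ⟨_, by first | (delta Cfsg.Agent.OrdDiv.fF4; rewrite [Cfsg.Agent.LsF.fc546c2_16.2, Cfsg.Agent.LsF.nmul_pat, Cfsg.Agent.LsF.nsub_pat, Cfsg.Agent.LsF.npow_pat]; exact rfl) | exact rfl⟩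
private noncomputable def _root_.Cfsg.Agent.LsF.fc546c2_19 : {f // @Cfsg.Agent.OrdDiv.fE6 = f} := ⟨_, by first | (delta Cfsg.Agent.OrdDiv.fE6; rewrite [Cfsg.Agent.LsF.fc546c2_16.2, Cfsg.Agent.LsF.nmul_pat, Cfsg.Agent.LsF.nsub_pat, Cfsg.Agent.LsF.npow_pat]; exact rfl) | exact rfl⟩
private noncomputable def _root_.Cfsg.Agent.LsF.fc546c2_20 : {f // @Cfsg.Agent.OrdDiv.fE7 = f} := ⟨_, by first | (delta Cfsg.Agent.OrdDiv.fE7; rewrite [Cfsg.Agent.LsF.fc546c2_16.2, Cfsg.Agent.LsF.nmul_pat, Cfsg.Agent.LsF.nsub_pat, Cfsg.Agent.LsF.npow_pat]; exact rfl) | exact rfl⟩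
private noncomputable def _root_.Cfsg.Agent.LsF.fc546c2_21 : {f // @Cfsg.Agent.OrdDiv.fE8 = f} := ⟨_, by first | (delta Cfsg.Agent.OrdDiv.fE8; rewrite [Cfsg.Agent.LsF.fc546c2_16.2, Cfsg.Agent.LsF.nmul_pat, Cfsg.Agent.LsF.nsub_pat, Cfsg.Agent.LsF.npow_pat]; exact rfl) | exact rfl⟩
private noncomputable def _root_.Cfsg.Agent.LsF.fc546c2_22 : {f // @Cfsg.Agent.OrdDiv.fTE6 = f} := ⟨_, by first | (delta Cfsg.Agent.OrdDiv.fTE6; rewrite [Cfsg.Agent.LsF.fc546c2_16.2, Cfsg.Agent.LsF.nadd_pat, Cfsg.Agent.LsF.nmul_pat, Cfsg.Agent.LsF.nsub_pat, Cfsg.Agent.LsF.npow_pat]; exact rfl) | exact rfl⟩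
private noncomputable def _root_.Cfsg.Agent.LsF.fc546c2_23 : {f // @Cfsg.Agent.OrdDiv.fTD4 = f} := ⟨_, by first | (delta Cfsg.Agent.OrdDiv.fTD4; rewrite [Cfsg.Agent.LsF.fc546c2_16.2, Cfsg.Agent.LsF.nadd_pat, Cfsg.Agent.LsF.nmul_pat, Cfsg.Agent.LsF.nsub_pat, Cfsg.Agent.LsF.npow_pat]; exact rfl) | exact rfl⟩
private noncomputable def _root_.Cfsg.Agent.LsF.fc546c2_24 : {f // @Cfsg.Agent.OrdDiv.fSz = f} := ⟨_, by first | (delta Cfsg.Agent.OrdDiv.fSz; rewrite [Cfsg.Agent.LsF.fc546c2_16.2, Cfsg.Agent.LsF.nadd_pat, Cfsg.Agent.LsF.nmul_pat, Cfsg.Agent.LsF.nsub_pat, Cfsg.Agent.LsF.nmod_pat, Cfsg.Agent.LsF.npow_pat, Cfsg.Agent.LsF.and_eq]; exact rfl) | exact rfl⟩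
private noncomputable def _root_.Cfsg.Agent.LsF.fc546c2_25 : {f // @Cfsg.Agent.OrdDiv.fRee = f} := ⟨_, by first | (delta Cfsg.Agent.OrdDiv.fRee; rewrite [Cfsg.Agent.LsF.fc546c2_16.2, Cfsg.Agent.LsF.nadd_pat, Cfsg.Agent.LsF.nmul_pat, Cfsg.Agent.LsF.nsub_pat, Cfsg.Agent.LsF.nmod_pat, Cfsg.Agent.LsF.npow_pat, Cfsg.Agent.LsF.and_eq]; exact rfl) | exact rfl⟩
private noncomputable def _root_.Cfsg.Agent.LsF.fc546c2_26 : {f // @Cfsg.Agent.OrdDiv.fTF4 = f} := ⟨_, by first | (delta Cfsg.Agent.OrdDiv.fTF4; rewrite [Cfsg.Agent.LsF.fc546c2_16.2, Cfsg.Agent.LsF.nadd_pat, Cfsg.Agent.LsF.nmul_pat, Cfsg.Agent.LsF.nsub_pat, Cfsg.Agent.LsF.nmod_pat, Cfsg.Agent.LsF.npow_pat, Cfsg.Agent.LsF.and_eq]; exact rfl) | exact rfl⟩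
private noncomputable def _root_.Cfsg.Agent.LsF.fc546c2_27 : {f // @Cfsg.Agent.OrdDiv.cands = f} := ⟨_, by first | (delta Cfsg.Agent.OrdDiv.cands; rewrite [Cfsg.Agent.LsF.fc546c2_4.2, Cfsg.Agent.LsF.fc546c2_6.2, Cfsg.Agent.LsF.fc546c2_8.2, Cfsg.Agent.LsF.fc546c2_10.2, Cfsg.Agent.LsF.fc546c2_12.2, Cfsg.Agent.LsF.fc546c2_13.2, Cfsg.Agent.LsF.fc546c2_14.2, Cfsg.Agent.LsF.fc546c2_15.2, Cfsg.Agent.LsF.fc546c2_17.2, Cfsg.Agent.LsF.fc546c2_18.2, Cfsg.Agent.LsF.fc546c2_19.2, Cfsg.Agent.LsF.fc546c2_20.2, Cfsg.Agent.LsF.fc546c2_21.2, Cfsg.Agent.LsF.fc546c2_22.2, Cfsg.Agent.LsF.fc546c2_23.2, Cfsg.Agent.LsF.fc546c2_24.2, Cfsg.Agent.LsF.fc546c2_25.2, Cfsg.Agent.LsF.fc546c2_26.2, Cfsg.Agent.LsF.nmod_pat, Cfsg.Agent.LsF.nbeq_pat, Cfsg.Agent.LsF.map_eq, Cfsg.Agent.LsF.flatten_eq, Cfsg.Agent.LsF.filter_eq]; exact rfl) | exact rfl⟩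
private noncomputable def _root_.Cfsg.Agent.LsF.fc546c2_28 : {f // @Cfsg.Agent.OrdDiv.instDecidableEqGrp.decEq = f} := ⟨_, by first | (delta Cfsg.Agent.OrdDiv.instDecidableEqGrp.decEq; rewrite [Cfsg.Agent.LsF.instDecEq_eq, Cfsg.Agent.LsF.dite_eq]; (try delta Cfsg.Agent.OrdDiv.instDecidableEqGrp.decEq.match_1); (try delta Decidable.casesOn); exact rfl) | exact rfl⟩
private noncomputable def _root_.Cfsg.Agent.LsF.fc546c2_29 : {f // @Cfsg.Agent.OrdDiv.instDecidableEqGrp = f} := ⟨_, by first | (delta Cfsg.Agent.OrdDiv.instDecidableEqGrp; rewrite [Cfsg.Agent.LsF.fc546c2_28.2]; exact rfl) | exact rfl⟩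
private noncomputable def _root_.Cfsg.Agent.LsF.fc546c2_30 : {f // @Cfsg.Agent.OrdDiv.ordN = f} := ⟨_, by first | (delta Cfsg.Agent.OrdDiv.ordN; rewrite [Cfsg.Agent.LsF.fc546c2_8.2, Cfsg.Agent.LsF.fc546c2_10.2, Cfsg.Agent.LsF.fc546c2_12.2, Cfsg.Agent.LsF.fc546c2_13.2, Cfsg.Agent.LsF.fc546c2_14.2, Cfsg.Agent.LsF.fc546c2_15.2, Cfsg.Agent.LsF.fc546c2_17.2, Cfsg.Agent.LsF.fc546c2_18.2, Cfsg.Agent.LsF.fc546c2_19.2, Cfsg.Agent.LsF.fc546c2_20.2, Cfsg.Agent.LsF.fc546c2_21.2, Cfsg.Agent.LsF.fc546c2_22.2, Cfsg.Agent.LsF.fc546c2_23.2, Cfsg.Agent.LsF.fc546c2_24.2, Cfsg.Agent.LsF.fc546c2_25.2, Cfsg.Agent.LsF.fc546c2_26.2, Cfsg.Agent.LsF.fc546c2_29.2, Cfsg.Agent.LsF.ndiv_pat, Cfsg.Agent.LsF.find?_eq, Cfsg.Agent.LsF.ogetD_eq, Cfsg.Agent.LsF.decide_eq]; (try delta Cfsg.Agent.OrdDiv.ordN.match_1); (try delta Cfsg.Agent.OrdDiv.ordN._sparseCasesOn_1); exact rfl) | exact rfl⟩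
private noncomputable def _root_.Cfsg.Agent.LsF.fc546c2_31 : {f // @Cfsg.Agent.H503.El.allOk = f} := ⟨_, by first | (delta Cfsg.Agent.H503.El.allOk; rewrite [Cfsg.Agent.LsF.fc546c2_2.2, Cfsg.Agent.LsF.fc546c2_3.2, Cfsg.Agent.LsF.fc546c2_0.2, Cfsg.Agent.LsF.fc546c2_27.2, Cfsg.Agent.LsF.fc546c2_30.2, Cfsg.Agent.LsF.instNBEq_pat, Cfsg.Agent.LsF.and_eq, Cfsg.Agent.LsF.all_eq, Cfsg.Agent.LsF.contains_eq]; exact rfl) | exact rfl⟩
private noncomputable def _root_.Cfsg.Agent.LsF.fc546c2_37 : {f // @Cfsg.Agent.H970.StabNum.divs = f} := ⟨_, by first | (delta Cfsg.Agent.H970.StabNum.divs List.brecOn List.brecOn.go Cfsg.Agent.H970.StabNum.divs._f; rewrite [Cfsg.Agent.LsF.nadd_pat, Cfsg.Agent.LsF.nmul_pat, Cfsg.Agent.LsF.npow_pat, Cfsg.Agent.LsF.map_eq, Cfsg.Agent.LsF.flatMap_eq, Cfsg.Agent.LsF.range_eq]; (try delta Cfsg.Agent.H970.StabNum.divs.match_1); (try delta List.casesOn); first | dsimp -zeta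 only | exact rfl) | exact rfl⟩
private noncomputable def _root_.Cfsg.Agent.LsF.fc546c2_38 : {f // @Cfsg.Agent.H503.El.sub = f} := ⟨_, by first | (delta Cfsg.Agent.H503.El.sub; rewrite [Cfsg.Agent.LsF.fc546c2_37.2, Cfsg.Agent.LsF.nmod_pat, Cfsg.Agent.LsF.nbeq_pat, Cfsg.Agent.LsF.and_eq, Cfsg.Agent.LsF.all_eq, Cfsg.Agent.LsF.filter_eq]; exact rfl) | exact rfl⟩
theorem pgap_psl72 (F : Type) [Field F] [Fintype F] (hF : Fintype.card F = 2)
    (R : Subgroup (Matrix.ProjectiveSpecialLinearGroup (Fin 7) F)) (hR : R ≠ ⊤) : PGap _ R := by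
  haveI : IsSimpleGroup (Matrix.ProjectiveSpecialLinearGroup (Fin 7) F) := S0249.result 7 (by norm_num)
  exact (pgap_of_ex OT hS (p := 127) (M := 7) (l := [(2, 21), (3, 4), (5, 1), (7, 2), (31, 1), (127, 1)])
    (ps := [2, 3, 5, 7, 31, 127])
    (tbl := [60, 168, 360, 504, 2520, 6048, 14880, 20160, 25920, 181440, 1024128, 1451520, 9999360, 20158709760,
      163849992929280]) (card_psl72 hF) (by norm_num) (by norm_num) (by norm_num)
    (by decide +kernel) (by ((try (rewrite [Cfsg.Agent.LsF.fc546c2_31.2])); decide +kernel)) (by decide +kernel)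
    (H809.SelfCent.psl_irred hF (by norm_num) (by norm_num) (by norm_num) (by norm_num) (by norm_num) (by norm_num)
      (by norm_num)) R hR).resolve_right (not_mem_of_isEmpty (by ((try (rewrite [Cfsg.Agent.LsF.fc546c2_38.2, Cfsg.Agent.LsF.isEmpty_eq])); decide +kernel)))

theorem pgap_o8m (F : Type) [Field F] [Fintype F] (hF : Fintype.card F = 2) (a b : F)
    (hab : ∀ z₁ z₂ : F, z₁ ^ 2 + a * z₁ * z₂ + b * z₂ ^ 2 = 0 → z₁ = 0 ∧ z₂ = 0)
    (R : Subgroup (POmega F (quadFormMinus 3 F a b))) (hR : R ≠ ⊤) : PGap _ R := by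
  haveI : IsSimpleGroup (POmega F (quadFormMinus 3 F a b)) := S0297.result 4 le_rfl a b hab
  haveI : Finite (POmega F (quadFormMinus 3 F a b)) :=
    Nat.finite_of_card_ne_zero (by rw [card_o8m hF a b hab]; norm_num)
  exact (pgap_of_ex OT hS (p := 17) (M := 4) (l := [(2, 12), (3, 4), (5, 1), (7, 1), (17, 1)]) (ps := [2, 3, 5, 7, 17])
    (tbl := [60, 168, 360, 504, 2448, 2520, 4080, 6048, 20160, 25920, 181440, 1451520, 197406720])
    (card_o8m hF a b hab) (by norm_num) (by norm_num) (by norm_num)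
    (by decide +kernel) (by ((try (rewrite [Cfsg.Agent.LsF.fc546c2_31.2])); decide +kernel)) (by decide +kernel)
    (H732.SelfCent.omega8minus_selfcent hF a b hab) R hR).resolve_right (not_mem_of_isEmpty (by ((try (rewrite [Cfsg.Agent.LsF.fc546c2_38.2, Cfsg.Agent.LsF.isEmpty_eq])); decide +kernel)))

theorem pgap_o10p (F : Type) [Field F] [Fintype F] (hF : Fintype.card F = 2)
    (R : Subgroup (POmega F (quadFormPlus 5 F))) (hR : R ≠ ⊤) : PGap _ R := by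
  haveI : IsSimpleGroup (POmega F (quadFormPlus 5 F)) := S0296.result 5 (by norm_num)
  haveI : Finite (POmega F (quadFormPlus 5 F)) :=
    Nat.finite_of_card_ne_zero (by rw [card_o10p hF]; norm_num)
  exact (pgap_of_ex OT hS (p := 31) (M := 5) (l := [(2, 20), (3, 5), (5, 2), (7, 1), (17, 1), (31, 1)])
    (ps := [2, 3, 5, 7, 17, 31])
    (tbl := [60, 168, 360, 504, 2448, 2520, 4080, 6048, 14880, 20160, 25920, 181440, 604800, 979200, 1451520, 1814400,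
      9999360, 174182400, 197406720, 987033600, 47377612800, 23499295948800])
    (card_o10p hF) (by norm_num) (by norm_num) (by norm_num)
    (by decide +kernel) (by ((try (rewrite [Cfsg.Agent.LsF.fc546c2_31.2])); decide +kernel)) (by decide +kernel)
    (H732.SelfCent.omega10plus_selfcent hF) R hR).resolve_right (not_mem_of_isEmpty (by ((try (rewrite [Cfsg.Agent.LsF.fc546c2_38.2, Cfsg.Agent.LsF.isEmpty_eq])); decide +kernel)))

theorem pgap_psl44 (F : Type) [Field F] [Fintype F] (hF : Fintype.card F = 4)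
    (R : Subgroup (Matrix.ProjectiveSpecialLinearGroup (Fin 4) F)) (hR : R ≠ ⊤) : PGap _ R := by
  haveI : IsSimpleGroup (Matrix.ProjectiveSpecialLinearGroup (Fin 4) F) := S0249.result 4 (by norm_num)
  have hD : Data (Matrix.ProjectiveSpecialLinearGroup (Fin 4) F) [(7, 9, 54)] [2, 3, 5, 7, 17]
      [60, 168, 360, 504, 2448, 2520, 4080, 6048, 20160, 25920, 181440, 604800, 979200, 1451520, 1814400, 197406720,
        987033600] := by
    refine mk_data OT hS (l := [(2, 12), (3, 4), (5, 2), (7, 1), (17, 1)]) (card_psl44 hF) (by ((try (rewrite [Cfsg.Agent.LsF.fc546c2_31.2])); decide +kernel)) ?_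
    intro x hx
    rw [List.mem_singleton] at hx
    subst hx
    exact entry_of_sub (by norm_num) (card_psl44 hF) (by norm_num) (by norm_num) (by norm_num) (by decide +kernel)
      (cent_psl44 hF)
  rcases pgap_sub (l := [(2, 12), (3, 4), (5, 2), (7, 1), (17, 1)]) (card_psl44 hF) (by decide +kernel)
    (by decide +kernel) hD R hR with h | h
  · exact h
  · exfalso
    have h1 : sub 987033600 [(2, 12), (3, 4), (5, 2), (7, 1), (17, 1)] [(7, 9, 54)] [2, 3, 5, 7, 17]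
        [60, 168, 360, 504, 2448, 2520, 4080, 6048, 20160, 25920, 181440, 604800, 979200, 1451520, 1814400, 197406720,
          987033600] = [197406720] := by (refine of_decide_eq_true ?_; (try (rewrite [Cfsg.Agent.LsF.fc546c2_38.2, Cfsg.Agent.LsF.instDecEq_eq, Cfsg.Agent.LsF.dListEq_eq, Cfsg.Agent.LsF.decide_eq])); decide +kernel)
    rw [h1, List.mem_singleton] at h
    have h2 := R.card_mul_index
    rw [h, card_psl44 hF] at h2
    have h3 : R.index = 5 := by omega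
    have h4 := card_dvd_factorial R hR
    rw [h3, card_psl44 hF] at h4
    exact absurd h4 (by decide)

/-- `Sp₈(2)`: only the orders of `Ω⁻₈(2)` and `Ω⁻₈(2).2` -/
theorem pgap_sp82 (F : Type) [Field F] [Fintype F] (hF : Fintype.card F = 2)
    (R : Subgroup (PSp 4 F)) (hR : R ≠ ⊤) :
    PGap _ R ∨ Nat.card R = 197406720 ∨ Nat.card R = 394813440 := by
  have hc : Nat.card (PSp 4 F) = 47377612800 := by
    rw [H732.SelfCent.card_psp_eight hF]
    norm_num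
  haveI : IsSimpleGroup (PSp 4 F) := S0270.result 4 (by norm_num) (by omega)
  have hself : ∃ P : Subgroup (PSp 4 F), Nat.card P = 17 ∧ centralizer (P : Set (PSp 4 F)) = P :=
    H732.SelfCent.selfcent_of_orders (by norm_num) (by rw [hc]; norm_num) (by rw [hc]; norm_num)
      (fun s hs hsd hne g => H732.SelfCent.psp_eight_orders hF hs hsd hne g)
  have h := pgap_of_ex OT hS (p := 17) (M := 8) (l := [(2, 16), (3, 5), (5, 2), (7, 1), (17, 1)])
    (ps := [2, 3, 5, 7, 17])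
    (tbl := [60, 168, 360, 504, 2448, 2520, 4080, 6048, 20160, 25920, 181440, 604800, 979200, 1451520, 1814400,
      174182400, 197406720, 987033600, 47377612800])
    hc (by norm_num) (by norm_num) (by norm_num) (by decide +kernel) (by ((try (rewrite [Cfsg.Agent.LsF.fc546c2_31.2])); decide +kernel)) (by decide +kernel)
    hself R hR
  have h1 : (sub 47377612800 [(2, 16), (3, 5), (5, 2), (7, 1), (17, 1)] [(17, 1, 8)] [2, 3, 5, 7, 17]
      [60, 168, 360, 504, 2448, 2520, 4080, 6048, 20160, 25920, 181440, 604800, 979200, 1451520, 1814400, 174182400,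
        197406720, 987033600, 47377612800]).all (fun h => h == 197406720 || h == 394813440) = true := by
    ((try (rewrite [Cfsg.Agent.LsF.fc546c2_38.2, Cfsg.Agent.LsF.nbeq_pat, Cfsg.Agent.LsF.or_eq, Cfsg.Agent.LsF.all_eq])); decide +kernel)
  rw [List.all_eq_true] at h1
  refine h.imp_right fun h2 => ?_
  have h3 := h1 _ h2
  rwa [Bool.or_eq_true, beq_iff_eq, beq_iff_eq] at h3

end Cfsg.Agent.H503.El
end

-- part: H503/El/O73
section
set_option linter.all false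
open scoped Cfsg.Agent.FastGrp

/-!
# TEAM ELUSIVE: `Ω₇(3)` (helper503): every proper subgroup misses a prime.
-/

set_option autoImplicit false

namespace Cfsg.Agent.H503.El

open Subgroup Cfsg.Agent.H970.StabNum Cfsg.Agent.H278.El Cfsg.Agent.H396 Cfsg.Agent Cfsg.Agent.H938.Sax

theorem card_o73 {F : Type} [Field F] [Fintype F] (hF : Fintype.card F = 3) :
    Nat.card (POmega F (quadFormOdd 3 F)) = 4585351680 := by
  have hord := Cfsg.Agent.S0292.result (F := F) (q := 3) hF (by decide) 3 (by norm_num)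
  simp only [Finset.prod_range_succ, Finset.prod_range_zero] at hord
  norm_num at hord ⊢
  omega

set_option maxRecDepth 100000 in
/-- **`Ω₇(3)`: every proper subgroup misses a prime.** -/
theorem pgap_o73 (OT : OrdDiv.OrderTable.{0})
    (hS : ∀ (X : Type) [Group X] [Finite X] [IsSimpleGroup X], Cfsg.IsKnownSimple' X)
    (F : Type) [Field F] [Fintype F] (hF : Fintype.card F = 3)
    (R : Subgroup (POmega F (quadFormOdd 3 F))) (hR : R ≠ ⊤) : PGap _ R := by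
  haveI : IsSimpleGroup (POmega F (quadFormOdd 3 F)) := S0295.result (by rw [hF]; decide) 3 le_rfl
  haveI : Finite (POmega F (quadFormOdd 3 F)) := Nat.finite_of_card_ne_zero (by rw [card_o73 hF]; norm_num)
  exact (pgap_of_ex OT hS (p := 13) (M := 6) (l := [(2, 9), (3, 9), (5, 1), (7, 1), (13, 1)]) (ps := [2, 3, 5, 7, 13])
    (tbl := [60, 168, 360, 504, 1092, 2520, 5616, 6048, 9828, 20160, 25920, 29120, 181440, 262080, 1451520, 3265920,
      4245696, 6065280, 42456960, 4585351680]) (card_o73 hF) (by norm_num) (by norm_num) (by norm_num)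
    (by decide +kernel) (by decide +kernel) (by decide +kernel)
    (H134.OmegaThree.omega_odd_three hF) R hR).resolve_right (not_mem_of_isEmpty (by decide +kernel))

end Cfsg.Agent.H503.El
end
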