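import Mathlib
import Cfsg.Prelude.Def_Classical
import Cfsg.Agent.H503.El.O8Fin_m3
import Cfsg.Agent.H503.El.Fix2_m3
import Cfsg.Agent.H503.El.O73
import Cfsg.Agent.H134.OmegaThree
import Cfsg.Agent.H899.O7.Spec
import Cfsg.Agent.UGT.U2.Rec.Congr
import Cfsg.Agent.S2371
import Cfsg.Agent.S0296
import Cfsg.Agent.LieClassical.OrthCenter
import Cfsg.Agent.LieClassical.OmegaReindex
import Cfsg.Agent.ClassicalGeometry.IsoTransfer
import Cfsg.Agent.Prune
set_option linter.all false
prune_inst 0x7ffffdfffffebddfffff7e7ffffddffffbf8dfffefdffbfbffedfbffbfdf73ffbbe5abafffe4f0ff9ef666f630b87853ff7eeeffea6fdc7ffffdfff45ffbee5ff7ffbd0c5196bc341ffe6ffffbf07fce7f3fffffffffffffffffffffffffffffffffffffffff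
open scoped Cfsg.Agent.FastGrp

-- part: H503/El/O83Mat
section
/-!
# TEAM ELUSIVE: `PΩ⁺₈(3)`, explicit matrices (helper503)
-/

set_option autoImplicit false
set_option maxRecDepth 100000

namespace Cfsg.Agent.H503.El.O83

open Cfsg Matrix

/-- the field -/
abbrev R3 := ZMod 3

/-- index type -/
abbrev I8 := Fin 4 ⊕ Fin 4

/-- matrices -/
abbrev M8 := Matrix I8 I8 R3

/-- the quadratic form -/
abbrev Q8 : (I8 → R3) → R3 := quadFormPlus 4 R3

/-- the Gram matrix -/
def J8 : M8 := Matrix.fromBlocks 0 1 1 0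

def A1 : M8 := Matrix.fromBlocks !![1,0,0,0; 0,0,0,1; 0,0,1,0; 0,2,0,0] !![0,0,0,0; 0,2,0,0; 0,0,0,0; 0,0,0,2] !![0,0,0,0; 0,1,0,0; 0,0,0,0; 0,0,0,1] !![1,0,0,0; 0,0,0,2; 0,0,1,0; 0,1,0,0]
def B1 : M8 := Matrix.fromBlocks !![0,0,0,1; 0,1,0,0; 0,0,1,0; 2,0,0,0] !![2,0,0,0; 0,0,0,0; 0,0,0,0; 0,0,0,2] !![1,0,0,0; 0,0,0,0; 0,0,0,0; 0,0,0,1] !![0,0,0,2; 0,1,0,0; 0,0,1,0; 1,0,0,0]
def A2 : M8 := Matrix.fromBlocks !![0,0,0,0; 0,1,0,0; 0,0,2,0; 0,0,0,0] !![2,0,0,0; 0,0,0,0; 0,0,0,0; 0,0,0,1] !![2,0,0,0; 0,0,0,0; 0,0,0,0; 0,0,0,1] !![0,0,0,0; 0,1,0,0; 0,0,2,0; 0,0,0,0]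
def B2 : M8 := Matrix.fromBlocks !![0,2,2,0; 2,0,1,0; 1,1,0,0; 1,0,2,0] !![0,0,0,1; 0,0,0,2; 0,0,0,1; 1,2,1,0] !![2,2,1,1; 2,2,2,1; 1,2,2,1; 1,1,1,0] !![0,2,1,1; 2,0,1,0; 2,1,0,2; 0,0,0,0]

theorem A1_sq : A1 * A1 = 1 := by decide +kernel
theorem B1_sq : B1 * B1 = 1 := by decide +kernel
theorem A2_sq : A2 * A2 = 1 := by decide +kernel
theorem B2_sq : B2 * B2 = 1 := by decide +kernel

theorem A1_j : A1.transpose * J8 * A1 = J8 := by decide +kernel
theorem B1_j : B1.transpose * J8 * B1 = J8 := by decide +kernel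
theorem A2_j : A2.transpose * J8 * A2 = J8 := by decide +kernel
theorem B2_j : B2.transpose * J8 * B2 = J8 := by decide +kernel

theorem two_q (v : I8 → R3) : v ⬝ᵥ (J8 *ᵥ v) = 2 * Q8 v := by
  show v ⬝ᵥ (J8 *ᵥ v) = 2 * quadFormPlus 4 R3 v
  unfold J8 quadFormPlus
  simp only [dotProduct, Fintype.sum_sum_type, mulVec, Matrix.fromBlocks_apply₁₁, Matrix.fromBlocks_apply₁₂,
    Matrix.fromBlocks_apply₂₁, Matrix.fromBlocks_apply₂₂, Matrix.zero_apply, Matrix.one_apply, zero_mul,
    Finset.sum_const_zero, zero_add, add_zero, ite_mul, one_mul, Finset.sum_ite_eq, Finset.mem_univ, if_true]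
  rw [two_mul]
  congr 1
  exact Finset.sum_congr rfl fun i _ => mul_comm _ _

theorem iso_of_j {A : M8} (h : A.transpose * J8 * A = J8) (v : I8 → R3) : Q8 (A *ᵥ v) = Q8 v := by
  have h1 : 2 * Q8 (A *ᵥ v) = 2 * Q8 v := by
    rw [← two_q, ← two_q]
    have h2 : (A *ᵥ v) ⬝ᵥ (J8 *ᵥ (A *ᵥ v)) = v ⬝ᵥ ((A.transpose * J8 * A) *ᵥ v) := by
      rw [← Matrix.mulVec_mulVec, ← Matrix.mulVec_mulVec, Matrix.dotProduct_mulVec v A.transpose, Matrix.vecMul_transpose]
    rw [h2, h]
  have h3 : (2 : R3) ≠ 0 := by decide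
  exact mul_left_cancel₀ h3 h1

/-- the products -/
def Y1 : M8 := A1 * B1 * A1 * B1
def Y2 : M8 := A2 * B2 * A2 * B2

theorem Y1_props : Y1 ^ 5 = 1 ∧ Y1 ≠ 1 := by decide +kernel
theorem Y1_fix : Y1.mulVec (Pi.single (Sum.inr 2) 1 : I8 → R3) = Pi.single (Sum.inr 2) 1 := by decide +kernel
theorem Y2_props : Y2 ^ 5 = 1 ∧ Y2 ≠ 1 ∧ Y2 ^ 4 + Y2 ^ 3 + Y2 ^ 2 + Y2 + 1 = 0 := by decide +kernel

end Cfsg.Agent.H503.El.O83
end

-- part: H503/El/O83
section
/-!
# TEAM ELUSIVE: `PΩ⁺₈(3)` (helper503)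

* `pgap_t8` : a proper subgroup misses a prime or has the order of `Ω₇(3)`
* `derTAll_t8` : a proper subgroup misses a `T`-class of elements of prime order
-/

set_option autoImplicit false

namespace Cfsg.Agent.H503.El.O83

open Subgroup Cfsg.Agent.H970.StabNum Cfsg.Agent.H278.El Cfsg.Agent.H396 Cfsg.Agent Cfsg.Agent.H938.Sax

/-- the linear group -/
abbrev S8 := Omega R3 Q8

/-- the simple group -/
abbrev T8 := POmega R3 Q8

/-- the matrices of the elements -/
def rho : S8 →* M8 :=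
  (Units.coeHom M8).comp ((isometryGroup R3 Q8).subtype.comp (Omega R3 Q8).subtype)

theorem rho_injective : Function.Injective rho := by
  intro a b h
  exact Subtype.ext (Subtype.ext (Units.ext h))

/-- the isometries with the given involutory matrices -/
def isoOf (A : M8) (h : A * A = 1) (hA : A.transpose * J8 * A = J8) : isometryGroup R3 Q8 :=
  ⟨⟨A, A, h, h⟩, ClassicalGeometry.IsoTransfer.mem_isometryGroup_iff.2 (iso_of_j hA)⟩

/-- a commutator of involutions -/
def comOf (A B : M8) (hA2 : A * A = 1) (hB2 : B * B = 1) (hA : A.transpose * J8 * A = J8)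
    (hB : B.transpose * J8 * B = J8) : S8 :=
  ⟨isoOf A hA2 hA * isoOf B hB2 hB * (isoOf A hA2 hA)⁻¹ * (isoOf B hB2 hB)⁻¹, by
    show _ ∈ _root_.commutator (isometryGroup R3 Q8)
    rw [commutator_def]
    exact Subgroup.commutator_mem_commutator (Subgroup.mem_top _) (Subgroup.mem_top _)⟩

theorem rho_comOf (A B : M8) (hA2 : A * A = 1) (hB2 : B * B = 1) (hA : A.transpose * J8 * A = J8)
    (hB : B.transpose * J8 * B = J8) : rho (comOf A B hA2 hB2 hA hB) = A * B * A * B := by
  rfl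

attribute [irreducible] comOf

theorem card_t8 : Nat.card T8 = 4952179814400 := by
  have hord := Cfsg.Agent.S0293.result (F := R3) (q := 3) (by rw [ZMod.card]) 4 (by norm_num)
  rw [show Nat.gcd 4 (3 ^ 4 - 1) = 4 by norm_num] at hord
  have h1 : 4 * Nat.card T8 = 3 ^ (4 * (4 - 1)) * (3 ^ 4 - 1) * ∏ i ∈ Finset.range (4 - 1), (3 ^ (2 * (i + 1)) - 1) := hord
  have h2 : 3 ^ (4 * (4 - 1)) * (3 ^ 4 - 1) * ∏ i ∈ Finset.range (4 - 1), (3 ^ (2 * (i + 1)) - 1) =
      4 * 4952179814400 := by decide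
  rw [h2] at h1
  exact Nat.eq_of_mul_eq_mul_left (by norm_num) h1

/-- the centre -/
theorem rho_center {z : S8} (hz : z ∈ center S8) : rho z = 1 ∨ rho z = -1 := by
  have hnd := LieClassical.OmegaReindex.quadPlus_nondegenerate (m := 4) (F := R3)
  have hz' : z ∈ center (Omega R3 (⇑(LieClassical.OmegaReindex.quadPlus 4 R3))) := hz
  exact (LieClassical.OrthCenter.mem_center_omega_iff hnd (by simp) ⟨Pi.single (.inl 0) 1, by
      intro h
      have := congrFun h (.inl 0)
      simp only [_root_.Fin.isValue, _root_.Pi.single_eq_same, _root_.Pi.zero_apply, _root_.one_ne_zero] at this, by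
      rw [LieClassical.OmegaReindex.coe_quadPlus]
      unfold quadFormPlus
      simp⟩ z).1 hz'

/-- the projection -/
def pr : S8 →* T8 := QuotientGroup.mk' (center S8)

theorem pr_surjective : Function.Surjective pr := QuotientGroup.mk'_surjective _

theorem pr_eq {a b : S8} (h : pr a = pr b) : rho b = rho a ∨ rho b = -rho a := by
  have h1 : a⁻¹ * b ∈ center S8 := QuotientGroup.eq.1 h
  have h2 : rho b = rho a * rho (a⁻¹ * b) := by rw [← _root_.MonoidHom.map_mul, mul_inv_cancel_left]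
  (have h_ob := rho_center h1
   revert h_ob; rintro (h3 | h3)) <;> rw [h3] at h2
  · left; rw [h2, mul_one]
  · right; rw [h2, mul_neg, mul_one]

instance finT8 : Finite T8 := Nat.finite_of_card_ne_zero (by rw [card_t8]; norm_num)

instance simpleT8 : IsSimpleGroup T8 := S0296.result 4 le_rfl

/-- the elements -/
def y1 : S8 := comOf A1 B1 A1_sq B1_sq A1_j B1_j
def y2 : S8 := comOf A2 B2 A2_sq B2_sq A2_j B2_j

theorem rho_y1 : rho y1 = Y1 := rho_comOf _ _ _ _ _ _
theorem rho_y2 : rho y2 = Y2 := rho_comOf _ _ _ _ _ _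

attribute [irreducible] y1 y2
attribute [local irreducible] Y1 Y2

theorem neg_one_ne : (-1 : M8) ≠ 1 := by
  intro h
  have h1 := congrFun (congrFun h (Sum.inl 0)) (Sum.inl 0)
  rw [Matrix.neg_apply, Matrix.one_apply_eq] at h1
  exact absurd h1 (by decide)

theorem neg_pow5 : (-1 : M8) ^ 5 = -1 := Odd.neg_one_pow (by decide)

theorem order_pr {y : S8} (h5 : rho y ^ 5 = 1) (h1 : rho y ≠ 1) : orderOf (pr y) = 5 := by
  haveI : Fact (Nat.Prime 5) := ⟨by norm_num⟩
  have h6 : y ^ 5 = 1 := rho_injective (by rw [map_pow, h5, map_one])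
  refine orderOf_eq_prime (by rw [← _root_.MonoidHom.map_pow, h6, _root_.MonoidHom.map_one]) fun h => ?_
  have h2 : pr 1 = pr y := by rw [h, _root_.MonoidHom.map_one]
  rcases pr_eq h2 with h3 | h3
  · rw [map_one] at h3; exact h1 h3
  · rw [map_one] at h3
    rw [h3, neg_pow5] at h5
    exact neg_one_ne h5

theorem order_y1 : orderOf (pr y1) = 5 :=
  order_pr (by rw [rho_y1]; exact Y1_props.1) (by rw [rho_y1]; exact Y1_props.2)

theorem order_y2 : orderOf (pr y2) = 5 :=
  order_pr (by rw [rho_y2]; exact Y2_props.1) (by rw [rho_y2]; exact Y2_props.2.1)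

theorem y2_fpf (v : I8 → R3) (h3 : Y2.mulVec v = v) : v = 0 := by
  have hp : ∀ k : ℕ, (Y2 ^ k).mulVec v = v := by
    intro k
    induction k with
    | zero => rw [pow_zero, Matrix.one_mulVec]
    | succ k ih => rw [pow_succ, ← Matrix.mulVec_mulVec, h3, ih]
  have h4 := congrArg (fun M => M.mulVec v) Y2_props.2.2
  simp only [Matrix.add_mulVec, hp, h3, Matrix.one_mulVec, Matrix.zero_mulVec] at h4
  ext i
  have h5 := congrFun h4 i
  simp only [Pi.add_apply, Pi.zero_apply] at h5 ⊢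
  have h6 : ∀ x : R3, x + x + x + x + x = 0 → x = 0 := by decide
  exact h6 _ h5

/-- the two classes of elements of order `5` -/
theorem not_conj (g : T8) : pr y2 ∉ zpowers (g * pr y1 * g⁻¹) := by
  intro h
  obtain ⟨k, hk⟩ := Subgroup.mem_zpowers_iff.1 h
  obtain ⟨g', rfl⟩ := pr_surjective g
  simp only [← map_inv, ← map_mul, ← map_mul, ← map_zpow] at hk
  have h1 : rho ((g' * y1 * g'⁻¹) ^ k) ^ 5 = 1 := by
    have h6 : y1 ^ 5 = 1 := rho_injective (by rw [map_pow, rho_y1, Y1_props.1, map_one])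
    (rewrite [← map_pow]; simp only [← zpow_natCast]; simp only [← zpow_mul]; rewrite [mul_comm]; simp only [zpow_mul]; simp only [zpow_natCast]; simp only [conj_pow]; simp only [h6])
    simp
  -- a fixed vector
  set v : I8 → R3 := Pi.single (Sum.inr 2) 1 with hv
  have hfix : ∀ k : ℤ, (rho (y1 ^ k)).mulVec v = v := by
    have hnat : ∀ n : ℕ, (rho (y1 ^ n)).mulVec v = v := by
      intro n
      induction n with
      | zero => rw [pow_zero, map_one, Matrix.one_mulVec]
      | succ n ih => rw [pow_succ, _root_.MonoidHom.map_mul, ← Matrix.mulVec_mulVec, rho_y1, Y1_fix, ih]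
    intro k
    have hfo : IsOfFinOrder y1 := isOfFinOrder_iff_pow_eq_one.2 ⟨5, by norm_num,
      rho_injective (by rw [map_pow, rho_y1, Y1_props.1, map_one])⟩
    obtain ⟨n, hn⟩ := Submonoid.mem_powers_iff _ _ |>.1 (hfo.mem_powers_iff_mem_zpowers.2
      (show y1 ^ k ∈ zpowers y1 from ⟨k, rfl⟩))
    rw [← hn]
    exact hnat n
  have hw : (rho ((g' * y1 * g'⁻¹) ^ k)).mulVec ((rho g').mulVec v) = (rho g').mulVec v := by
    simp_rw [conj_zpow, _root_.MonoidHom.map_mul rho (g' * y1 ^ k) (g'⁻¹), _root_.MonoidHom.map_mul rho g' (y1 ^ k), Matrix.mulVec_mulVec v (rho g' * rho (y1 ^ k) * rho g'⁻¹) (rho g'), mul_assoc (rho g' * rho (y1 ^ k)) (rho g'⁻¹) (rho g'), mul_assoc (rho g') (rho (y1 ^ k)) (rho g'⁻¹ * rho g'), ← _root_.MonoidHom.map_mul rho (g'⁻¹) g', inv_mul_cancel g', _root_.MonoidHom.map_one rho,       mul_one (rho (y1 ^ k)), ← Matrix.mulVec_mulVec v (rho g') (rho (y1 ^ k)), hfix k]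
  have hw0 : (rho g').mulVec v ≠ 0 := by
    intro h0
    have h2 : (rho g'⁻¹).mulVec ((rho g').mulVec v) = v := by
      rw [Matrix.mulVec_mulVec, ← _root_.MonoidHom.map_mul, inv_mul_cancel, _root_.MonoidHom.map_one, Matrix.one_mulVec]
    rw [h0, Matrix.mulVec_zero] at h2
    have h3 := congrFun h2 (Sum.inr 2)
    rw [hv, Pi.single_eq_same] at h3
    exact absurd h3 (by decide)
  rcases pr_eq hk with h2 | h2
  · rw [rho_y2] at h2
    rw [← h2] at hw
    exact hw0 (y2_fpf _ hw)
  · rw [rho_y2] at h2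
    have h3 := Y2_props.1
    simp only [h2, Odd.neg_pow (show Odd 5 by decide) (rho ((g' * y1 * g'⁻¹) ^ k)), h1] at h3
    exact neg_one_ne h3

end Cfsg.Agent.H503.El.O83
end

-- part: H503/El/O83Main
section
/-!
# TEAM ELUSIVE: `PΩ⁺₈(3)`, main theorems (helper503)

* `pgap_o83` : a proper subgroup misses a prime or has the order of `Ω₇(3)`
* `derTAll_o83` : a proper subgroup misses a `T`-class of elements of prime order
-/

set_option autoImplicit false
set_option maxRecDepth 100000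

namespace Cfsg.Agent.H503.El.O83

open Subgroup Cfsg.Agent.H970.StabNum Cfsg.Agent.H278.El Cfsg.Agent.H396 Cfsg.Agent Cfsg.Agent.H938.Sax

/-- no element of order `21` -/
theorem not_21 (g : T8) : orderOf g ≠ 21 := by
  intro h
  have h1 : (21 : ℕ) ∈ Set.range (orderOf : T8 → ℕ) := ⟨g, h⟩
  have h2 := H899.O7.Spec.range_Q8
  have h3 : (21 : ℕ) ∈ H899.O7.Om := by
    rw [← h2]
    obtain ⟨g, hg⟩ := h1
    have e : T8 ≃* POmega (ZMod 3) (⇑(H899.O7.Spec.Q8)) := by
      rw [H899.O7.Spec.Q8, LieClassical.OrthForms.coe_plusForm]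
    exact ⟨e g, by rw [MulEquiv.orderOf_eq, hg]⟩
  exact absurd h3 (by decide)

/-- no section `G₂(4)` -/
theorem not_g24 {L : Type} [Group L] [Finite L] (ι : L →* T8) (hι : Function.Injective ι) (A : Subgroup L) [A.Normal]
    {F : Type} [Field F] [Fintype F] (hF : Fintype.card F = 4) (e : L ⧸ A ≃* ↥(Lie.chevG2.group F)) : False := by
  obtain ⟨H, hH, hc, -⟩ := S2371.result (F := F) 4 hF (by norm_num)
  obtain ⟨g, hg⟩ := hH.exists_generator
  have hog : orderOf g = 21 := by
    rw [orderOf_eq_card_of_forall_mem_zpowers hg, hc]; norm_num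
  obtain ⟨x, hx⟩ := QuotientGroup.mk'_surjective A (e.symm g)
  have hox : 21 ∣ orderOf x := by
    have h1 := orderOf_map_dvd (QuotientGroup.mk' A) x
    rwa [hx, MulEquiv.orderOf_eq, Subgroup.orderOf_coe, hog] at h1
  obtain ⟨k, hk⟩ := hox
  have hk0 : k ≠ 0 := by
    rintro rfl
    rw [mul_zero] at hk
    exact (orderOf_pos x).ne' hk
  apply not_21 (ι (x ^ k))
  rw [orderOf_injective ι hι, orderOf_pow' x hk0, hk, Nat.gcd_mul_left_left, Nat.mul_div_cancel _ (Nat.pos_of_ne_zero hk0)]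

theorem dvd_27 (d : ℕ) (hd : d ∣ 27) (h : 27 ≡ d [MOD 7]) : d = 27 := by
  have h1 : ∀ d ∈ Nat.divisors 27, 27 % 7 = d % 7 → d = 27 := by decide
  exact h1 d (Nat.mem_divisors.2 ⟨hd, by norm_num⟩) h

/-- **`PΩ⁺₈(3)`: a proper subgroup misses a prime or has the order of `Ω₇(3)`.** -/
theorem pgap_t8 (OT : OrdDiv.OrderTable.{0})
    (hS : ∀ (X : Type) [Group X] [Finite X] [IsSimpleGroup X], Cfsg.IsKnownSimple' X)
    (R : Subgroup T8) (hR : R ≠ ⊤) : PGap T8 R ∨ Nat.card R = 4585351680 := by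
  classical
  haveI h13p : Fact (Nat.Prime 13) := ⟨by norm_num⟩
  have hent : ∀ P : Subgroup T8, Nat.card P = 13 → Nat.card (centralizer (P : Set T8)) ∣ 13 * 1 ∧
      Nat.card (normalizer (P : Set T8)) ∣ 13 * 6 :=
    entry_of_ex (by norm_num) card_t8 (by norm_num) (by norm_num) (by decide +kernel)
      (H134.OmegaThree.omega_plus_three (F := ZMod 3) (ZMod.card 3))
  have hD : Data T8 [(13, 1, 6)] [2, 3, 5, 7, 13]
      [60, 168, 360, 504, 1092, 2520, 5616, 6048, 7800, 9828, 20160, 25920, 29120, 62400, 181440, 262080, 604800,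
        1451520, 1814400, 3265920, 4245696, 6065280, 17971200, 42456960, 174182400, 251596800, 4585351680,
        4952179814400] := by
    refine mk_data OT hS (l := [(2, 12), (3, 12), (5, 2), (7, 1), (13, 1)]) card_t8 (by decide +kernel) ?_
    intro x hx
    rw [List.mem_singleton] at hx
    subst hx
    exact hent
  rcases pgap_sub (l := [(2, 12), (3, 12), (5, 2), (7, 1), (13, 1)]) card_t8 (by decide +kernel)
    (by decide +kernel) hD R hR with h | h
  · exact Or.inl h
  right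
  have h1 : (sub 4952179814400 [(2, 12), (3, 12), (5, 2), (7, 1), (13, 1)] [(13, 1, 6)] [2, 3, 5, 7, 13]
      [60, 168, 360, 504, 1092, 2520, 5616, 6048, 7800, 9828, 20160, 25920, 29120, 62400, 181440, 262080, 604800,
        1451520, 1814400, 3265920, 4245696, 6065280, 17971200, 42456960, 174182400, 251596800, 4585351680,
        4952179814400]).all
        (fun h => h == 4585351680 || (h == 251596800 || (h == 6793113600 || (h == 183414067200 ||
          h == 123804495360)))) = true := by decide +kernel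
  rw [List.all_eq_true] at h1
  have h2 := h1 _ h
  simp only [Bool.or_eq_true, beq_iff_eq] at h2
  rcases h2 with h2 | h2
  · exact h2
  exfalso
  -- the structure
  have hR13 : 13 ∣ Nat.card R := by rcases h2 with h2 | h2 | h2 | h2 <;> rw [h2] <;> norm_num
  have hR169 : ¬ 13 ^ 2 ∣ Nat.card R := by rcases h2 with h2 | h2 | h2 | h2 <;> rw [h2] <;> norm_num
  have hR49 : ¬ 7 ^ 2 ∣ Nat.card R := by rcases h2 with h2 | h2 | h2 | h2 <;> rw [h2] <;> norm_num
  have hR125 : ¬ 5 ^ 3 ∣ Nat.card R := by rcases h2 with h2 | h2 | h2 | h2 <;> rw [h2] <;> norm_num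
  have hR7 : 7 ∣ Nat.card R := by rcases h2 with h2 | h2 | h2 | h2 <;> rw [h2] <;> norm_num
  have hR5 : 5 ∣ Nat.card R := by rcases h2 with h2 | h2 | h2 | h2 <;> rw [h2] <;> norm_num
  obtain ⟨x, hx⟩ := exists_prime_orderOf_dvd_card' 13 hR13
  have hP : Nat.card (zpowers x) = 13 := by rw [Nat.card_zpowers, hx]
  have hPm : Nat.card ((zpowers x).map R.subtype) = 13 := by
    simp only [← hP]
    exact (Nat.card_congr ((zpowers x).equivMapOfInjective _ R.subtype_injective).toEquiv).symm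
  obtain ⟨L, hLn, A, hAn, hs, hA13, hPL, hcard, h13, D, m, hN, hDC, hDA, hpow⟩ := Struct.exists_struct' hP hR169
  have hC13 : Nat.card (centralizer ((zpowers x : Subgroup R) : Set R)) ∣ 13 :=
    (Fix.card_cent_map R.subtype_injective _).trans (by simpa only [_root_.MonoidHom.map_zpowers, _root_.Subgroup.subtype_apply, _root_.Nat.card_eq_fintype_card, _root_.mul_one] using (hent _ hPm).1)
  have hN78 : Nat.card (normalizer ((zpowers x : Subgroup R) : Set R)) ∣ 78 :=
    (Fix.card_norm_map R.subtype_injective _).trans (hent _ hPm).2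
  have hD1 : D = 1 := by
    rcases (Nat.dvd_prime h13p.out).1 (hDC.trans hC13) with h3 | h3
    · exact h3
    · exact absurd (Eq.subst (motive := fun d : ℕ => d ∣ Nat.card A) h3 hDA) hA13
  subst hD1
  have hc6 : L.index ∣ 6 := by
    rw [hN] at hN78
    have h3 : L.index * m * 13 ∣ 6 * 13 := by
      have h4 : L.index * (1 * (13 * m)) = L.index * m * 13 := by ring
      rw [h4] at hN78
      exact hN78
    exact (Dvd.intro _ rfl).trans (Nat.dvd_of_mul_dvd_mul_right (by norm_num) h3)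
  have hpow' : ∀ r : ℕ, r.Prime → r ^ ((Nat.card A).factorization r) ≡ 1 [MOD 13] := by
    intro r hr
    (have h_ob := hpow r hr
     revert h_ob; rintro (⟨j, hj, hj'⟩))
    (simp only [Nat.dvd_one.1 hj] at hj'; assumption)
  set! a := Nat.card A with ha
  set! s := Nat.card (L ⧸ A) with hsd
  set! c := L.index with hc
  replace hcard : Nat.card R = a * s * c := hcard
  replace hA13 : ¬ 13 ∣ a := hA13
  replace h13 : 13 ∣ s := h13
  replace hc6 : c ∣ 6 := hc6
  replace hpow' : ∀ r : ℕ, r.Prime → r ^ (a.factorization r) ≡ 1 [MOD 13] := hpow'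
  have ha0 : a ≠ 0 := (Nat.card_pos (α := A)).ne'
  have hadvd : a ∣ Nat.card R := ⟨s * c, by rw [hcard]; ring⟩
  have hsdvd : s ∣ Nat.card R := ⟨a * c, by rw [hcard]; ring⟩
  have h7a : ¬ 7 ∣ a := by
    intro h3
    have h4 := hpow' 7 (by norm_num)
    have h5 : 1 ≤ a.factorization 7 := ((by norm_num : Nat.Prime 7).dvd_iff_one_le_factorization ha0).1 h3
    have h6 : ¬ 2 ≤ a.factorization 7 := fun h6 => hR49
      ((((by norm_num : Nat.Prime 7).pow_dvd_iff_le_factorization ha0).2 h6).trans hadvd)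
    have h7 : a.factorization 7 = 1 := by omega
    rw [h7] at h4
    exact absurd h4 (by decide)
  have h5a : ¬ 5 ∣ a := by
    intro h3
    have h4 := hpow' 5 (by norm_num)
    have h5 : 1 ≤ a.factorization 5 := ((by norm_num : Nat.Prime 5).dvd_iff_one_le_factorization ha0).1 h3
    have h6 : ¬ 3 ≤ a.factorization 5 := fun h6 => hR125
      ((((by norm_num : Nat.Prime 5).pow_dvd_iff_le_factorization ha0).2 h6).trans hadvd)
    have h7 : a.factorization 5 = 1 ∨ a.factorization 5 = 2 := by omega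
    rcases h7 with h7 | h7 <;> rw [h7] at h4 <;> exact absurd h4 (by decide)
  have h7c : ¬ 7 ∣ c := fun h3 => by
    have := h3.trans hc6
    omega
  have h5c : ¬ 5 ∣ c := fun h3 => by
    have := h3.trans hc6
    omega
  have h7s : 7 ∣ s := by
    rw [hcard] at hR7
    rcases (by norm_num : Nat.Prime 7).dvd_mul.1 hR7 with h3 | h3
    · exact ((by norm_num : Nat.Prime 7).dvd_mul.1 h3).resolve_left h7a
    · exact absurd h3 h7c
  have h5s : 5 ∣ s := by
    rw [hcard] at hR5
    rcases (by norm_num : Nat.Prime 5).dvd_mul.1 hR5 with h3 | h3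
    · exact ((by norm_num : Nat.Prime 5).dvd_mul.1 h3).resolve_left h5a
    · exact absurd h3 h5c
  have hna : ¬ ∀ u v : L ⧸ A, u * v = v * u := by
    intro hab
    letI : CommGroup (L ⧸ A) := { (inferInstance : Group (L ⧸ A)) with mul_comm := hab }
    have h3 : s.Prime := IsSimpleGroup.prime_card (α := L ⧸ A)
    have h4 : 13 = s := (Nat.prime_dvd_prime_iff_eq h13p.out h3).1 h13
    (clear * - h5s h4; omega)
  have hsT : s ∣ Nat.card T8 := hsdvd.trans (Subgroup.card_subgroup_dvd_card R)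
  have hstbl := hD.tbl (L ⧸ A) hs hna hsT
  -- `a` is odd
  have h2a : ¬ 2 ∣ a := by
    intro h3
    have h4 := hpow' 2 Nat.prime_two
    have h5 : 1 ≤ a.factorization 2 := (Nat.prime_two.dvd_iff_one_le_factorization ha0).1 h3
    have hs2 : 2 ∣ s := by
      have h6 : ∀ s ∈ [60, 168, 360, 504, 1092, 2520, 5616, 6048, 7800, 9828, 20160, 25920, 29120, 62400, 181440,
          262080, 604800, 1451520, 1814400, 3265920, 4245696, 6065280, 17971200, 42456960, 174182400, 251596800,
          4585351680, 4952179814400], 2 ∣ s := by decide +kernel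
      exact h6 _ hstbl
    have h7 : ¬ 2 ^ 13 ∣ Nat.card R := by rcases h2 with h2 | h2 | h2 | h2 <;> rw [h2] <;> norm_num
    have h8 : ¬ 12 ≤ a.factorization 2 := by
      intro h8
      apply h7
      have h9 : 2 ^ 12 ∣ a := (Nat.prime_two.pow_dvd_iff_le_factorization ha0).2 h8
      have h10 : 2 ^ 12 * 2 ∣ a * s := Nat.mul_dvd_mul h9 hs2
      rw [hcard]
      exact (h10.trans (Dvd.intro _ rfl))
    generalize a.factorization 2 = v at h4 h5 h8
    have h9 : v < 12 := by (clear * - h5 h8; omega)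
    unfold Nat.ModEq at h4
    interval_cases v <;> (clear * - h4; omega)
  have hs9 : 2 ^ 8 ∣ s := by
    have h3 : 2 ^ 9 ∣ Nat.card R := by rcases h2 with h2 | h2 | h2 | h2 <;> rw [h2] <;> norm_num
    rw [hcard, mul_assoc] at h3
    have h4 : Nat.Coprime (2 ^ 9) a :=
      Nat.Coprime.pow_left _ ((Nat.Prime.coprime_iff_not_dvd Nat.prime_two).2 h2a)
    have h5 : 2 ^ 9 ∣ s * c := h4.dvd_of_dvd_mul_left h3
    have h6 : 2 ^ 9 ∣ s * 6 := h5.trans (Nat.mul_dvd_mul_left _ hc6)
    have h7 : 2 ^ 8 * 2 ∣ s * 3 * 2 := by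
      rw [mul_assoc]; exact h6
    have h8 : 2 ^ 8 ∣ s * 3 := Nat.dvd_of_mul_dvd_mul_right (by norm_num) h7
    exact (Nat.Coprime.pow_left 8 (by norm_num)).dvd_of_dvd_mul_right h8
  have hss : s = 251596800 ∨ s = 4585351680 := by
    have h3 : ∀ s ∈ [60, 168, 360, 504, 1092, 2520, 5616, 6048, 7800, 9828, 20160, 25920, 29120, 62400, 181440,
        262080, 604800, 1451520, 1814400, 3265920, 4245696, 6065280, 17971200, 42456960, 174182400, 251596800,
        4585351680, 4952179814400], 2 ^ 8 ∣ s → 5 ∣ s → 7 ∣ s → 13 ∣ s → s ≠ 4952179814400 →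
        s = 251596800 ∨ s = 4585351680 := by decide +kernel
    refine h3 _ hstbl hs9 h5s h7s h13 ?_
    intro h4
    have h5 : s ≤ Nat.card R := Nat.le_of_dvd Nat.card_pos hsdvd
    rcases h2 with h2 | h2 | h2 | h2 <;> rw [h2, h4] at h5 <;> (clear * - h5; omega)
  rcases hss with hss | hss
  · -- `G₂(4)`
    obtain ⟨g, hg, hreal⟩ := OrdDiv.exists_real_filter OT (S := L ⧸ A) (hS _) hna
      (l := [(2, 12), (3, 12), (5, 2), (7, 1), (13, 1)]) (N := 4952179814400) (by decide +kernel)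
      (by simp only [← card_t8]; exact hsT) (fun o => o == 251596800) (by rw [← hsd, hss]; rfl)
    have hj : ((OrdDiv.cands [(2, 12), (3, 12), (5, 2), (7, 1), (13, 1)] 4952179814400).filter
        fun g => OrdDiv.ordN g == 251596800).all (fun g => match g with
          | .g2 q => q == 4
          | _ => false) = true := by decide +kernel
    rw [List.all_eq_true] at hj
    have hj' := hj g hg
    have hJ : ∃ (F : Type) (_ : Field F) (_ : Fintype F), Fintype.card F = 4 ∧
        Nonempty ((L ⧸ A) ≃* ↥(Lie.chevG2.group F)) := by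
      cases g with
      | g2 q =>
        have hq : q = 4 := by
          have : (q == 4) = true := hj'
          exact beq_iff_eq.1 this
        subst hq
        exact hreal
      | _ => exact absurd hj' Bool.false_ne_true
    obtain ⟨F, _, _, hF, ⟨e⟩⟩ := hJ
    exact not_g24 (R.subtype.comp L.subtype) (fun u v huv => Subtype.ext (Subtype.ext huv)) A hF e
  · -- `3³ : Ω₇(3)`
    have h3R : Nat.card R = 123804495360 := by
      rcases h2 with h2 | h2 | h2 | h2
      · exfalso
        rw [hss, h2] at hsdvd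
        exact absurd hsdvd (by norm_num)
      · exfalso
        rw [hss, h2] at hsdvd
        exact absurd hsdvd (by norm_num)
      · exfalso
        rw [hcard, hss] at h2
        have h3 : a * c = 40 := by linarith only [h2]
        have h4 : 5 ∣ a * c := by rw [h3]; norm_num
        rcases (by norm_num : Nat.Prime 5).dvd_mul.1 h4 with h5 | h5
        · exact h5a h5
        · exact h5c h5
      · exact h2
    have hac : a * c = 27 := by
      rw [hcard, hss] at h3R
      linarith only [h3R]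
    have hc3 : c ∣ 3 := by
      have h4 : c ∣ 27 := ⟨a, by rw [← hac, mul_comm]⟩
      exact (Nat.dvd_gcd hc6 h4).trans (by norm_num)
    have ha27 : a = 27 := by
      rcases (Nat.dvd_prime Nat.prime_three).1 hc3 with h3 | h3
      · rw [h3, mul_one] at hac; exact hac
      · exfalso
        rw [h3] at hac
        have h4 : a = 3 ^ 2 := by (clear * - hac; omega)
        have h5 := hpow' 3 Nat.prime_three
        rw [h4, Nat.prime_three.factorization_pow, Finsupp.single_eq_same] at h5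
        exact absurd h5 (by decide)
    refine Struct.no_ext' A (p := 13) (r := 7) (by norm_num) (by norm_num) hs h13 h7s (by rw [← ha, ha27]; norm_num)
      (by rw [← ha, ha27]; norm_num) ?_ (by rw [← ha, ha27]; norm_num) ?_
    · rw [← ha, ha27]
      exact dvd_27
    · intro u v hu huv
      have hu' : orderOf ((u : R) : T8) = 13 := by rw [Subgroup.orderOf_coe, Subgroup.orderOf_coe, hu]
      have h3 := (hent (zpowers ((u : R) : T8)) (by rw [Nat.card_zpowers, hu'])).1
      have h4 : ((v : R) : T8) ∈ centralizer ((zpowers ((u : R) : T8) : Subgroup T8) : Set T8) := by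
        simp only [zpowers_eq_closure, centralizer_closure, mem_centralizer_singleton_iff]
        exact congrArg (fun z : L => ((z : R) : T8)) huv
      have h5 := Subgroup.orderOf_dvd_natCard _ h4
      have h6 := h5.trans h3
      rw [Subgroup.orderOf_coe, Subgroup.orderOf_coe] at h6
      simpa using h6

end Cfsg.Agent.H503.El.O83

namespace Cfsg.Agent.H503.El

open Subgroup Cfsg.Agent.H278.El Cfsg.Agent.H396 Cfsg.Agent Cfsg.Agent.H938.Sax

variable (OT : OrdDiv.OrderTable.{0})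
    (hS : ∀ (X : Type) [Group X] [Finite X] [IsSimpleGroup X], Cfsg.IsKnownSimple' X)
    (F : Type) [Field F] [Fintype F] (hF : Fintype.card F = 3)

include hF in
theorem equiv_o83 : Nonempty (O83.T8 ≃* POmega F (quadFormPlus 4 F)) :=
  UGT.U2.Rec.Congr.nonempty_POmega (F := ZMod 3) (F' := F) (ι := Fin 4 ⊕ Fin 4)
    (ZMod.ringEquivOfPrime F Nat.prime_three hF) (Q := quadFormPlus 4 (ZMod 3)) (Q' := quadFormPlus 4 F)
    (fun v => by simp [quadFormPlus, map_sum, map_mul])

theorem comap_ne_top {T S : Type} [Group T] [Group S] (e : T ≃* S) {R : Subgroup S} (hR : R ≠ ⊤) :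
    R.comap e.toMonoidHom ≠ ⊤ := by
  intro h
  apply hR
  rw [eq_top_iff]
  intro x _
  have h1 : e.symm x ∈ R.comap e.toMonoidHom := by rw [h]; trivial
  rw [Subgroup.mem_comap] at h1
  simpa using h1

include OT hS hF

/-- **`PΩ⁺₈(3)`: a proper subgroup misses a prime or has the order of `Ω₇(3)`.** -/
theorem pgap_o83 (R : Subgroup (POmega F (quadFormPlus 4 F))) (hR : R ≠ ⊤) :
    PGap _ R ∨ Nat.card R = 4585351680 := by
  obtain ⟨e⟩ := equiv_o83 F hF
  have h2 : Nat.card (R.comap e.toMonoidHom) = Nat.card R :=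
    Nat.card_congr (Equiv.subtypeEquiv e.toEquiv fun x => Iff.rfl)
  rcases O83.pgap_t8 OT hS _ (comap_ne_top e hR) with h | h
  · exact Or.inl (PGap.congr e h)
  · exact Or.inr (by rwa [h2] at h)

end Cfsg.Agent.H503.El
end
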